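import Cfsg.Agent.Class.Five.Eig
import Cfsg.Agent.Class.Five.Mult
import Cfsg.Agent.Mit.Groups
import Cfsg.Agent.Mit.L27
import Cfsg.Agent.Char.Burnside
import Cfsg.Agent.Solv.CentralExt

/-!
# The five-dimensional representations of `L₂(q)` and `A₇`
-/

set_option autoImplicit false

namespace Cfsg.Lib.Five

open Matrix Cfsg.Geo Cfsg.Lib.Class Cfsg.Lib.Class.Asch Cfsg.Lib.Mit
open scoped MatrixGroups

universe u

/-! ## Group theory -/

theorem exists_conj_zpowers {G : Type*} [Group G] [Finite G] {p : ℕ} [hp : Fact p.Prime]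
    (h : ¬ p ^ 2 ∣ Nat.card G) {x y : G} (hx : orderOf x = p) (hy : orderOf y = p) :
    ∃ (k : G) (i : ℕ), k * y * k⁻¹ = x ^ i := by
  have key : ∀ y : G, orderOf y = p → ∃ P : Sylow p G, (P : Subgroup G) = .zpowers y :=
    fun y hy => by
      obtain ⟨P, hP⟩ := (IsPGroup.of_card (p := p) (n := 1) (G := Subgroup.zpowers y)
        (by rw [Nat.card_zpowers, hy, pow_one])).exists_le_sylow
      refine ⟨P, (Subgroup.eq_of_le_of_card_ge hP ?_).symm⟩
      obtain ⟨n, hn⟩ := IsPGroup.iff_card.1 P.isPGroup'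
      rw [Nat.card_zpowers, hy, hn]
      have h1 : ¬ p ^ 2 ∣ p ^ n := fun e => h (e.trans (hn ▸ Subgroup.card_subgroup_dvd_card _))
      rw [Nat.pow_dvd_pow_iff_le_right hp.out.one_lt] at h1
      exact (Nat.pow_le_pow_right hp.out.pos (show n ≤ 1 by omega)).trans_eq (pow_one p)
  obtain ⟨P, hP⟩ := key y hy
  obtain ⟨P', hP'⟩ := key x hx
  obtain ⟨k, hk⟩ := MulAction.exists_smul_eq G P P'
  have h1 : k * y * k⁻¹ ∈ Subgroup.zpowers x := by
    rw [← hP', ← hk]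
    exact ⟨y, hP.ge (Subgroup.mem_zpowers y), rfl⟩
  obtain ⟨i, hi⟩ := mem_powers_iff_mem_zpowers.2 h1
  exact ⟨k, i, hi.symm⟩

section Alt

open Equiv Equiv.Perm

theorem alt_real_of_odd {g : alternatingGroup (Fin 7)} {τ : Perm (Fin 7)} (h : sign τ = -1)
    (hc : τ * g = g * τ) : IsConj g g⁻¹ := by
  obtain ⟨k, hk⟩ := isConj_iff.1 (isConj_inv_perm (g : Perm (Fin 7)))
  rcases Int.units_eq_one_or (sign k) with h1 | h1
  · exact isConj_iff.2 ⟨⟨k, h1⟩, Subtype.ext hk⟩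
  · refine isConj_iff.2 ⟨⟨k * τ, mem_alternatingGroup.2 (by simp [h, h1])⟩, Subtype.ext ?_⟩
    change k * τ * g * (k * τ)⁻¹ = (g : Perm (Fin 7))⁻¹
    rw [← hk, mul_assoc k, hc]; group

theorem alt7_real {g : alternatingGroup (Fin 7)} (h7 : g ^ 7 ≠ 1) : IsConj g g⁻¹ := by
  by_cases h1 : (g : Perm (Fin 7)).support.card + 2 ≤ 7
  · exact alternatingGroup.isConj_of (isConj_inv_perm _) (by simpa using h1)
  by_cases h2 : ∃ m ∈ (g : Perm (Fin 7)).cycleType, Even m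
  · obtain ⟨m, hm, he⟩ := h2
    obtain ⟨c, τ, e, hc, -, -, -, h3, -⟩ := exists_factor hm
    exact alt_real_of_odd (τ := c) (by rw [h3, he.neg_one_pow]) (by rw [e, mul_assoc, hc.eq])
  push Not at h2
  have h3 : ∀ m ∈ (g : Perm (Fin 7)).cycleType, m = 3 := fun m hm => by
    have h4 := two_le_of_mem_cycleType hm
    have h5 := Nat.not_even_iff.1 (h2 m hm)
    obtain ⟨c, τ, e, hc, h6, h8, h9, h10, h11⟩ := exists_factor hm
    by_cases ht : τ = 1
    · rw [ht, mul_one] at e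
      rw [e, h8] at h1
      obtain rfl : m = 7 := by omega
      exact absurd (Subtype.ext (e ▸ h9 : (g : Perm (Fin 7)) ^ 7 = 1)) h7
    have h12 := one_lt_card_support_of_ne_one ht
    by_contra h13
    have h14 := card_support_eq_two.1 (show τ.support.card = 2 by omega)
    have h15 := mem_alternatingGroup.1 g.2
    rw [e, Perm.sign_mul, h10, h14.sign_eq, show m = 5 by omega] at h15
    exact absurd h15 (by decide)
  have h4 := Multiset.eq_replicate_card.2 h3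
  have h5 := sum_cycleType (g : Perm (Fin 7))
  have h6 : (g : Perm (Fin 7)).support.card ≤ 7 := (Finset.card_le_univ _).trans_eq (Fintype.card_fin 7)
  rw [h4, Multiset.sum_replicate, smul_eq_mul] at h5
  rw [show Multiset.card (g : Perm (Fin 7)).cycleType = 2 by omega] at h4
  have h8 : (swap 0 1 * swap 0 2 * (swap 3 4 * swap 3 5) : Perm (Fin 7)).cycleType =
      Multiset.replicate 2 3 := by
    rw [Disjoint.cycleType_mul (fun x => by revert x; decide),
      isThreeCycle_swap_mul_swap_same (by decide) (by decide) (by decide),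
      isThreeCycle_swap_mul_swap_same (by decide) (by decide) (by decide)]
    rfl
  obtain ⟨k, hk⟩ := isConj_iff.1 (isConj_iff_cycleType_eq.2 (h8.trans h4.symm))
  refine alt_real_of_odd (τ := k * (swap 0 3 * swap 1 4 * swap 2 5) * k⁻¹) ?_ ?_
  · rw [Perm.sign_mul, Perm.sign_mul, sign_inv, mul_right_comm, Int.units_mul_self, one_mul]
    decide
  · rw [← hk, conj_mul, conj_mul]
    exact congrArg (k * · * k⁻¹) (by decide)

theorem alt7_gen : ∃ a b : alternatingGroup (Fin 7), a * a = 1 ∧ a ≠ 1 ∧ b ^ 4 = 1 ∧ b ^ 7 ≠ 1 ∧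
    (a * b) ^ 7 = 1 ∧ IsConj (a * b)⁻¹ ((a * b)⁻¹ ^ 2) ∧
    ∀ K : Subgroup (alternatingGroup (Fin 7)), a ∈ K → b ∈ K → K = ⊤ := by
  refine ⟨⟨swap 3 4 * swap 5 6, mem_alternatingGroup.2 (by decide)⟩,
    ⟨swap 0 1 * swap 1 2 * swap 2 3 * swap 4 5, mem_alternatingGroup.2 (by decide)⟩, by decide,
    by decide, by decide +kernel, by decide +kernel, by decide +kernel, ?_, fun K ha hb => ?_⟩
  · exact ((((alt7_cases _).resolve_left (by decide +kernel)).resolve_left fun h =>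
      absurd h.1 (by decide +kernel)).resolve_left (by decide +kernel)).2
  have h1 : MulAction.IsPretransitive (K.map (alternatingGroup (Fin 7)).subtype) (Fin 7) :=
    ⟨fun x y => by
      obtain ⟨i, hi⟩ : ∃ i : Fin 7, ((swap 3 4 * swap 5 6 * (swap 0 1 * swap 1 2 * swap 2 3 *
        swap 4 5) : Perm (Fin 7)) ^ (i : ℕ)) x = y := by revert x y; decide +kernel
      exact ⟨⟨_, _, pow_mem (mul_mem ha hb) i, rfl⟩, hi⟩⟩
  have h2 := alternatingGroup_le_of_isPreprimitive_of_isThreeCycle_mem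
    (MulAction.IsPreprimitive.of_prime_card (G := K.map (alternatingGroup (Fin 7)).subtype)
      (by simp; norm_num))
    (isThreeCycle_swap_mul_swap_same (a := 1) (b := 4) (c := 3) (by decide) (by decide) (by decide))
    ⟨_, pow_mem (mul_mem (mul_mem ha hb) hb) 2, by decide⟩
  refine eq_top_iff.2 fun g _ => ?_
  obtain ⟨k, hk, e⟩ := h2 g.2
  exact Subtype.ext e ▸ hk

end Alt

section L2

variable {K : Type*} [Field K] [Finite K] (l : ℕ) [hl : Fact l.Prime] [CharP K l]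

theorem l2_borel {g : psl2 K} (hg : g ^ l = 1) : ∃ (u : K → psl2 K) (d : Kˣ →* psl2 K),
    (∀ s t, u (s + t) = u s * u t) ∧ (∀ t, u t = 1 → t = 0) ∧ (∀ t (n : ℕ), u t ^ n = u (n * t)) ∧
    (∀ (k : Kˣ) t, d k * u t * (d k)⁻¹ = u (k ^ 2 * t)) ∧ ∃ b, g = u b := by
  have hg' : (g : PGL(2, K)) ^ l = 1 := congrArg Subtype.val hg
  obtain ⟨x, hx⟩ := pgl2_exists_fixed_of_pow_char l hg'
  obtain ⟨c, rfl⟩ := pgl2_exists_smul_inf_eq x
  obtain ⟨b, hb⟩ := exists_aff_one_of_pow_char l hx hg'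
  refine ⟨fun t => ⟨c * aff 1 t * c⁻¹, psl2_normal.conj_mem _ (aff_one_mem_psl2 t) c⟩,
    MonoidHom.mk' (fun k : Kˣ => ⟨c * aff (k ^ 2) 0 * c⁻¹, psl2_normal.conj_mem _
      ((aff_mem_psl2_iff _ _).2 ⟨(k : K), by simp [pow_two]⟩) c⟩) fun a b => Subtype.ext ?_,
    fun s t => Subtype.ext ?_, fun t h => ?_, fun t n => Subtype.ext ?_,
    fun k t => Subtype.ext ?_, b, Subtype.ext hb⟩
  · simp only [Subgroup.coe_mul, conj_mul, aff_mul, mul_pow]
    simp
  · simp only [Subgroup.coe_mul, conj_mul, aff_mul]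
    simp [add_comm]
  · exact (aff_eq_one_iff.1 (conj_eq_one_iff.1 (congrArg Subtype.val h))).2
  · simp only [Subgroup.coe_pow, conj_pow, aff_one_pow]
  · have := aff_conj_transl (k ^ 2) 0 t
    simp only [Units.val_pow_eq_pow_val] at this
    simp only [MonoidHom.mk'_apply, Subgroup.coe_mul, Subgroup.coe_inv, ← this]
    group

theorem l2_real {g : psl2 K} (hg : g ^ l ≠ 1) : IsConj g g⁻¹ := by
  obtain ⟨x, y, hT, hgT⟩ := exists_torusPair l (g := (g : PGL(2, K))) fun h => hg (Subtype.ext h)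
  obtain ⟨w, hw, h3, h4⟩ := hT.exists_swap
  exact isConj_iff.2 ⟨⟨w, hw⟩, Subtype.ext (conj_eq_inv_of_not_mem_fixPair hT.ne (.inr ⟨h3, h4⟩)
    (not_mem_fixPair_of_swap hT.ne h3) hgT)⟩

theorem l2_eleven [Fact (Nat.Prime 11)] [CharP K 11] {g : psl2 K} (hg : g ^ 11 = 1) :
    IsConj g (g ^ 3) := by
  obtain ⟨u, d, -, -, h1, h2, b, rfl⟩ := l2_borel 11 hg
  have h5 : ((5 : ℕ) : K) ≠ 0 := mt (CharP.cast_eq_zero_iff K 11 5).1 (by norm_num)
  refine isConj_iff.2 ⟨d (Units.mk0 _ h5), ?_⟩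
  rw [h2, Units.val_mk0, ← Nat.cast_pow, ← h1, pow_eq_pow_mod _ hg]
  rfl

theorem l2_five [Fact (Nat.Prime 11)] [CharP K 11] (hK : Nat.card K = 11) {g : psl2 K}
    (hg : g ^ 5 = 1) (h1 : g ≠ 1) :
    ∃ (x : psl2 K) (m : ℕ), x ^ 11 = 1 ∧ x ^ m ≠ 1 ∧ g * x * g⁻¹ = x ^ (m + 1) := by
  have := Fact.mk Nat.prime_five
  obtain ⟨u, d, ua, u0, up, hd, -⟩ := l2_borel (K := K) 11 (one_pow 11)
  have u1 : u 0 = 1 := by simpa using ua 0 0
  have h3 : ((3 : ℕ) : K) ≠ 0 := mt (CharP.cast_eq_zero_iff K 11 3).1 (by norm_num)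
  have h4 : Units.mk0 _ h3 ^ 5 = 1 := Units.ext (by
    rw [Units.val_pow_eq_pow_val, Units.val_mk0, ← Nat.cast_pow, CharP.cast_eq_mod K 11]; norm_num)
  have h5 : ∀ i : ℕ, d (Units.mk0 _ h3) ^ i * u 1 * (d (Units.mk0 _ h3) ^ i)⁻¹ =
      u 1 ^ (9 ^ i - 1 + 1) := fun i => by
    rw [← map_pow, hd, up, Nat.sub_add_cancel (Nat.one_le_pow _ _ (by norm_num)),
      Units.val_pow_eq_pow_val, Units.val_mk0, ← pow_mul, mul_comm i, pow_mul, ← Nat.cast_pow,
      ← Nat.cast_pow]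
    rfl
  have h6 : ∀ i : ℕ, u 1 ^ (9 ^ i - 1) = 1 → d (Units.mk0 _ h3) ^ i = 1 := fun i e => by
    rw [up, mul_one] at e
    have e1 := u0 _ e
    rw [Nat.cast_sub (Nat.one_le_pow _ _ (by norm_num)), sub_eq_zero] at e1
    have e2 : (Units.mk0 _ h3 ^ i) ^ 2 = 1 := Units.ext (by
      rw [← pow_mul, mul_comm, pow_mul, Units.val_pow_eq_pow_val, Units.val_pow_eq_pow_val,
        Units.val_mk0, ← Nat.cast_pow, ← Nat.cast_pow]
      exact e1.trans Nat.cast_one)
    have e3 : (Units.mk0 _ h3 ^ i) ^ 5 = 1 := by rw [← pow_mul, mul_comm, pow_mul, h4, one_pow]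
    rw [← map_pow, show Units.mk0 _ h3 ^ i = 1 by simpa using pow_gcd_eq_one.2 ⟨e2, e3⟩, map_one]
  have h7 := gcd_mul_card_psl2 (F := K)
  rw [hK, show Nat.gcd 2 (11 - 1) = 2 from rfl] at h7
  obtain ⟨k, i, e⟩ := exists_conj_zpowers (p := 5) (x := d (Units.mk0 _ h3)) (by omega)
    (orderOf_eq_prime (by rw [← map_pow, h4, map_one]) fun e => by
      have := h5 1
      rw [pow_one, e, one_mul, inv_one, mul_one, pow_succ, right_eq_mul, up, mul_one] at this
      exact absurd ((CharP.cast_eq_zero_iff K 11 _).1 (u0 _ this)) (by norm_num))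
    (orderOf_eq_prime hg h1)
  refine ⟨k⁻¹ * u 1 * k⁻¹⁻¹, 9 ^ i - 1, ?_, fun e1 => h1 ?_, ?_⟩
  · rw [conj_pow, up, CharP.cast_eq_zero, zero_mul, u1, mul_one, mul_inv_cancel]
  · rw [conj_pow, conj_eq_one_iff] at e1
    exact conj_eq_one_iff.1 (e.trans (h6 i e1))
  · rw [conj_pow, ← h5, ← e]; group

end L2

/-! ## Faithful representations -/

variable {F : Type*} [Field F] {P : Subgroup (GL (Fin 5) F)} {G : Type*} [Group G]
  {ρ : G →* GL (Fin 5) F}

theorem exists_rep {π : P →* G} (h : Proj P π) (hi : Function.Injective π) :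
    ∃ ρ : G →* GL (Fin 5) F, Function.Injective ρ ∧ ρ.range = P :=
  ⟨P.subtype.comp (MulEquiv.ofBijective π ⟨hi, h.surj⟩).symm,
    P.subtype_injective.comp (MulEquiv.ofBijective π ⟨hi, h.surj⟩).symm.injective, by
      rw [MonoidHom.range_comp, MonoidHom.range_eq_top.2 (MulEquiv.surjective _),
        ← MonoidHom.range_eq_map, Subgroup.range_subtype]⟩

theorem proj_equiv (e : Bar P ≃* G) : Proj P (e.toMonoidHom.comp (QuotientGroup.mk' _)) :=
  ⟨e.surjective.comp (QuotientGroup.mk'_surjective _), fun x =>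
    (MulEquiv.map_eq_one_iff e).trans (QuotientGroup.eq_one_iff x)⟩

theorem tr5_isConj {x y : GL (Fin 5) F} (h : IsConj x y) : tr5 y = tr5 x := by
  obtain ⟨c, rfl⟩ := isConj_iff.1 h
  exact tr5_conj c x

theorem tr5_real {g : G} (h : IsConj g g⁻¹) : tr5 (ρ g)⁻¹ = tr5 (ρ g) :=
  tr5_isConj (map_inv ρ g ▸ ρ.map_isConj h)

theorem tr5_real_of_unip (p : ℕ) [Fact p.Prime] [CharP F p] {x : GL (Fin 5) F} (h : x ^ p = 1) :
    tr5 x⁻¹ = tr5 x :=
  (tr5_eq_five p (k := 1) (by rw [inv_pow, pow_one, h, inv_one])).trans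
    (tr5_eq_five p (k := 1) (by rw [pow_one, h])).symm

/-- Scott's lemma excludes `(2,3,7)`- and `(2,4,7)`-groups. -/
theorem not_tri [Finite G] (hP : QS ρ.range) (hr : Rk2 ρ.range) (hi : Function.Injective ρ)
    (h7 : (7 : F) ≠ 0) {a b : G} (ha : a * a = 1) (ha1 : a ≠ 1) (hb : b ^ 3 = 1 ∨ b ^ 4 = 1)
    (hb' : IsConj b b⁻¹) (hc : (a * b) ^ 7 = 1) (hc' : IsConj (a * b)⁻¹ ((a * b)⁻¹ ^ 2))
    (hgen : ∀ K : Subgroup G, a ∈ K → b ∈ K → K = ⊤) : False := by
  have h1 : ρ a ≠ 1 := fun e => ha1 (hi (e.trans (map_one ρ).symm))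
  have h2 := scott5 hP.env_top (a := ρ a) (b := ρ b) (c := ρ (a * b)⁻¹)
    (by rw [← map_mul, ← map_mul, mul_inv_cancel, map_one]) h1 fun W w1 w2 => by
      let M : Submonoid G :=
        { carrier := {g | ∀ v ∈ W, (ρ g : Matrix (Fin 5) (Fin 5) F) *ᵥ v ∈ W}
          mul_mem' := fun {x y} hx hy v hv => by
            rw [map_mul, Units.val_mul, ← mulVec_mulVec]; exact hx _ (hy v hv)
          one_mem' := fun v hv => by simpa using hv }
      let N : Subgroup G := { M with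
        inv_mem' := fun {x} hx => Submonoid.powers_le.2 hx
          (mem_powers_iff_mem_zpowers.2 (inv_mem (Subgroup.mem_zpowers x))) }
      rintro _ ⟨g, rfl⟩
      have h2 : g ∈ N := hgen N w1 w2 ▸ Subgroup.mem_top g
      exact h2
  have h3 := hr (ρ a) ⟨a, rfl⟩ (by rw [← map_mul, ha, map_one]) h1
  have hd : (ρ b : Matrix (Fin 5) (Fin 5) F).det = 1 := by
    have : GeneralLinearGroup.det (ρ b) = 1 := hP.le_specialLinear ⟨b, rfl⟩
    rw [← GeneralLinearGroup.val_det_apply, this, Units.val_one]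
  have h4 : IsConj (ρ b) (ρ b)⁻¹ := map_inv ρ b ▸ ρ.map_isConj hb'
  have h5 : ((ρ b : Matrix (Fin 5) (Fin 5) F) - 1).det = 0 := by
    rcases hb with hb | hb
    · exact det_eq_zero_of_three hd (by rw [← map_pow, hb, map_one]) h4
    by_cases h2 : (2 : F) = 0
    · have := Fact.mk Nat.prime_two
      have : CharP F 2 := (CharP.charP_iff_prime_eq_zero Nat.prime_two).2 (by simpa using h2)
      exact det_eq_zero_of_unip 2 (k := 2) (by rw [← map_pow, show 2 ^ 2 = 4 from rfl, hb, map_one])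
    · exact det_eq_zero_of_real h2 hd h4
  have h6 := rank_le_four h5
  have h8 := rank_le_three h7 (g := ρ (a * b)⁻¹) (by rw [← map_pow, inv_pow, hc, inv_one, map_one])
    (map_pow ρ _ 2 ▸ ρ.map_isConj hc')
  omega

theorem wA7 : WA7.{u} := fun F _ _ P h hr ⟨e⟩ => by
  have := Fact.mk Nat.prime_five
  obtain ⟨ρ, hi, rfl⟩ := exists_rep (proj_equiv e) (injective_of_cyclic h.qs (proj_equiv e) fun S =>
    Solv.isCyclic_of_not_sq_dvd (by rw [nat_card_alternatingGroup]; simp [Nat.factorial])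
      S.isPGroup')
  by_cases h7 : (7 : F) = 0
  · have := Fact.mk (by norm_num : Nat.Prime 7)
    have : CharP F 7 := (CharP.charP_iff_prime_eq_zero (by norm_num)).2 (by simpa using h7)
    refine (fixQ_of_real5 h.qs.env_top ?_).1
    rintro _ ⟨g, rfl⟩
    by_cases hg : g ^ 7 = 1
    · exact tr5_real_of_unip 7 (by rw [← map_pow, hg, map_one])
    · exact tr5_real (alt7_real hg)
  · obtain ⟨a, b, h1, h2, h3, h4, h5, h6, h8⟩ := alt7_gen
    exact (not_tri h.qs hr hi h7 h1 h2 (.inr h3) (alt7_real h4) h5 h6 h8).elim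

section L2

variable {K : Type*} [Field K] [Fintype K] {ρ : psl2 K →* GL (Fin 5) F}

theorem l2_card (hi : Function.Injective ρ) (hK : 4 ≤ Fintype.card K) {g : psl2 K}
    (h₀ : tr5 (ρ g)⁻¹ ≠ tr5 (ρ g)) :
    (Fintype.card K = 7 ∧ (7 : F) ≠ 0) ∨ (Fintype.card K = 11 ∧ (11 : F) ≠ 0) := by
  classical
  obtain ⟨l, hlK⟩ := CharP.exists K
  have hl : Fact l.Prime := ⟨CharP.char_is_prime K l⟩
  have h1 : g ^ l = 1 := by_contra fun h1 => h₀ (tr5_real (l2_real l h1))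
  have h2 : ρ g ^ l = 1 := by rw [← map_pow, h1, map_one]
  have hF : (l : F) ≠ 0 := fun e => by
    have := (CharP.charP_iff_prime_eq_zero hl.out).2 e
    exact h₀ (tr5_real_of_unip l h2)
  obtain ⟨u, d, ua, u0, -, hd, b, rfl⟩ := l2_borel l h1
  have u1 : u 0 = 1 := by simpa using ua 0 0
  have h3 : Fintype.card K % 4 = 3 := by
    by_contra h3
    obtain ⟨k, hk⟩ := FiniteField.isSquare_neg_one_iff.2 h3
    refine h₀ (tr5_real (isConj_iff.2 ⟨d (Units.mk0 k (by rintro rfl; simp at hk)), ?_⟩))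
    rw [hd, Units.val_mk0, pow_two, ← hk, eq_inv_iff_mul_eq_one, ← ua, neg_one_mul, neg_add_cancel,
      u1]
  choose r hr using fun k : (powMonoidHom 2 : Kˣ →* Kˣ).range => k.2
  have h4 := orbit_le (fun t => ρ (u t))
    (fun s t => by rw [← map_mul, ← map_mul, ← ua, ← ua, add_comm]) hF (a₀ := b)
    (fun e => h₀ (by rw [e, inv_one])) h2 (fun k => ρ (d (r k))⁻¹) (fun k t => (k : Kˣ) * t)
    (fun k t => by
      rw [← map_mul, ← map_mul, ← hr, powMonoidHom_apply, Units.val_pow_eq_pow_val, ← hd]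
      congr 1; group)
    fun k k' e => ⟨b / ((k : Kˣ) - (k' : Kˣ)), by
      have : ((k : Kˣ) : K) - (k' : Kˣ) ≠ 0 := sub_ne_zero.2 fun h => e (Subtype.ext (Units.ext h))
      rw [← map_mul, ← ua]
      congr 2
      field_simp
      ring⟩
  rw [← Nat.card_eq_fintype_card, IsCyclic.card_powMonoidHom_range, Nat.card_units,
    Nat.card_eq_fintype_card, Fintype.card_fin] at h4
  have h5 : (Fintype.card K - 1).gcd 2 = 2 := Nat.gcd_eq_right (by omega)
  obtain ⟨n, -, hn⟩ := FiniteField.card K l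
  have h6 : ∀ q : ℕ, q.Prime → Fintype.card K = q → (q : F) ≠ 0 := fun q hq e =>
    (Nat.prime_dvd_prime_iff_eq hl.out hq).1 (e ▸ hn ▸ dvd_pow_self l n.ne_zero) ▸ hF
  rw [h5] at h4
  obtain e | e : Fintype.card K = 7 ∨ Fintype.card K = 11 := by omega
  exacts [.inl ⟨e, by exact_mod_cast h6 7 (by norm_num) e⟩,
    .inr ⟨e, by exact_mod_cast h6 11 (by norm_num) e⟩]

theorem tr5_pow_six (p : ℕ) [hp : Fact p.Prime] [CharP F p] {x : GL (Fin 5) F} (h : x ^ 6 = 1)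
    (hr : IsConj x x⁻¹) : tr5 x ^ p = tr5 x := by
  apply frobenius_inj F p
  rw [frobenius_def, frobenius_def, ← tr5_pow_char, ← tr5_pow_char, ← pow_mul]
  have h1 : ∀ k, tr5 (x ^ (5 * k)) = tr5 (x ^ k) := fun k => by
    rw [pow_mul, eq_inv_of_mul_eq_one_left ((pow_succ x 5).symm.trans h)]
    exact tr5_isConj (hr.pow k)
  have h2 : p * p % 6 = p % 6 ∨ p * p % 6 = 5 * p % 6 := by
    rw [Nat.mul_mod, Nat.mul_mod 5]
    have : p % 6 < 6 := Nat.mod_lt _ (by norm_num)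
    generalize p % 6 = s at *
    interval_cases s <;> norm_num
  rcases h2 with e | e
  · rw [pow_eq_pow_mod _ h, e, ← pow_eq_pow_mod _ h]
  · rw [pow_eq_pow_mod _ h, e, ← pow_eq_pow_mod _ h, h1]

theorem l2_exc [Fintype F] (p : ℕ) [hp : Fact p.Prime] [CharP F p] (hP : env ρ.range = ⊤)
    (hns : NoSub ρ.range) (hi : Function.Injective ρ) (hK : Fintype.card K = 11)
    (h11 : (11 : F) ≠ 0) {g₀ : psl2 K} (h₀ : tr5 (ρ g₀)⁻¹ ≠ tr5 (ρ g₀)) :
    (Fintype.card F = p ∧ (p % 11 = 1 ∨ p % 11 = 3 ∨ p % 11 = 4 ∨ p % 11 = 5 ∨ p % 11 = 9)) ∨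
      (Fintype.card F = p ^ 2 ∧
        (p % 11 = 2 ∨ p % 11 = 6 ∨ p % 11 = 7 ∨ p % 11 = 8 ∨ p % 11 = 10) ∧ FixU ρ.range) := by
  have := Fact.mk (by norm_num : Nat.Prime 11)
  have : CharP K 11 := charP_of_card_eq_prime hK
  have hK' := (Nat.card_eq_fintype_card (α := K)).trans hK
  have key : ∀ g, (tr5 (ρ g)⁻¹ = tr5 (ρ g) ∧ tr5 (ρ g) ^ p = tr5 (ρ g)) ∨
      (ρ g ^ 11 = 1 ∧ ∀ k, tr5 (ρ g ^ (3 * k % 11)) = tr5 (ρ g ^ k)) := fun g => by
    by_cases hg : g ^ 11 = 1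
    · have h1 : ρ g ^ 11 = 1 := by rw [← map_pow, hg, map_one]
      refine .inr ⟨h1, fun k => ?_⟩
      rw [← pow_eq_pow_mod _ h1, pow_mul]
      exact tr5_isConj ((map_pow ρ g 3 ▸ ρ.map_isConj (l2_eleven hg)).pow k)
    obtain ⟨h1, m, hm, h2⟩ := l2_semisimple 11 (by rw [ringChar.eq K 11]; norm_num) hg
    refine .inl ⟨tr5_real h1, ?_⟩
    obtain rfl | rfl : m = 5 ∨ m = 6 := by omega
    · by_cases h3 : g = 1
      · rw [← tr5_pow_char, h3, map_one, one_pow]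
      obtain ⟨x, m, h4, h5, h6⟩ := l2_five hK' h2 h3
      have h7 : (x ^ m) ^ 11 = 1 := by rw [← pow_mul, mul_comm, pow_mul, h4, one_pow]
      rw [show tr5 (ρ g) = 0 from trace_eq_zero (x := ρ x) (l := 11) (m := m) (by exact_mod_cast h11)
        (by rw [← map_pow, h4, map_one]) (by rw [← map_pow, ← h6, map_mul, map_mul, map_inv])
        (by
          rw [← map_pow]
          exact det_ne_zero_of_eleven h11 (by rw [← map_pow, h7, map_one])
            (fun e => h5 (hi (e.trans (map_one ρ).symm)))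
            (map_pow ρ _ 3 ▸ ρ.map_isConj (l2_eleven h7))), zero_pow hp.out.ne_zero]
    · exact tr5_pow_six p (by rw [← map_pow, h2, map_one]) (map_inv ρ g ▸ ρ.map_isConj h1)
  have hp11 : p % 11 ≠ 0 := fun h0 => by
    obtain rfl : 11 = p := (Nat.prime_dvd_prime_iff_eq (by norm_num) hp.out).1
      (Nat.dvd_of_mod_eq_zero h0)
    exact h11 (by exact_mod_cast CharP.cast_eq_zero F 11)
  obtain h1 | h1 : (p % 11 = 1 ∨ p % 11 = 3 ∨ p % 11 = 4 ∨ p % 11 = 5 ∨ p % 11 = 9) ∨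
    (p % 11 = 2 ∨ p % 11 = 6 ∨ p % 11 = 7 ∨ p % 11 = 8 ∨ p % 11 = 10) := by omega
  · refine .inl ⟨card_eq_char5 p hP hns ?_, h1⟩
    rintro _ ⟨g, rfl⟩
    rcases key g with h2 | ⟨h2, h3⟩
    · exact h2.2
    have e3 : tr5 (ρ g ^ 3) = tr5 (ρ g) := (h3 1).trans (by rw [pow_one])
    have e9 := (h3 3).trans e3
    have e5 := (h3 9).trans e9
    rw [← tr5_pow_char p, pow_eq_pow_mod p h2]
    rcases h1 with h1 | h1 | h1 | h1 | h1 <;> rw [h1]
    exacts [by rw [pow_one], e3, (h3 5).trans e5, e5, e9]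
  · have h4 : ∀ g, tr5 (ρ g)⁻¹ = tr5 (ρ g) ^ p := fun g => by
      rcases key g with h2 | ⟨h2, h3⟩
      · exact h2.1.trans h2.2.symm
      have e10 : tr5 (ρ g ^ 10) = tr5 (ρ g)⁻¹ := by
        rw [eq_inv_of_mul_eq_one_left ((pow_succ (ρ g) 10).symm.trans h2)]
      have e8 := (h3 10).trans e10
      have e2 := (h3 8).trans e8
      have e6 := (h3 2).trans e2
      rw [← tr5_pow_char p, pow_eq_pow_mod p h2]
      rcases h1 with h1 | h1 | h1 | h1 | h1 <;> rw [h1]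
      exacts [e2.symm, e6.symm, ((h3 6).trans e6).symm, e8.symm, e10.symm]
    obtain ⟨h5, h6⟩ := card_fixU5 p hP hns (by rintro _ ⟨g, rfl⟩; exact h4 g) (h4 g₀ ▸ h₀)
    exact .inr ⟨h5, h1, h6⟩

end L2

open Cfsg.Lib.Known Cfsg.Lib.Known.G168 in
theorem wL2 : WL2.{u} := fun F _ _ P h hr K _ _ ⟨e⟩ => by
  have h1 := gcd_mul_card_PSL2 (F := K)
  rw [Nat.card_eq_fintype_card (α := K)] at h1
  have hK : 4 ≤ Fintype.card K := by
    by_contra h2
    have := h.qs.simple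
    have h3 := Fintype.one_lt_card (α := K)
    rw [← Nat.card_congr e.toEquiv] at h1
    have := Char.isSolvable_of_card_dvd (a := 3) (b := 1) Nat.prime_two Nat.prime_three (Bar P)
      ((Dvd.intro_left _ h1).trans (by
        generalize Fintype.card K = q at *
        interval_cases q <;> norm_num))
    exact h.qs.nonabelian ⟨⟨IsSimpleGroup.comm_iff_isSolvable.2 this⟩⟩
  have hi : Function.Injective (e.toMonoidHom.comp (QuotientGroup.mk' _)) := by
    by_cases h2 : Fintype.card K = 4 ∨ Fintype.card K = 9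
    · have := Fact.mk Nat.prime_five
      refine injective_of_cyclic h.qs (proj_equiv e) fun S =>
        Solv.isCyclic_of_not_sq_dvd ?_ S.isPGroup'
      rcases h2 with h2 | h2 <;> rw [h2] at h1 <;> norm_num at h1 <;> omega
    · exact injective_psl h.qs (proj_equiv e) (.inl rfl) (fun _ => hK) (by simpa using h2)
  obtain ⟨ρ, hρ, rfl⟩ := exists_rep (proj_equiv (e.trans (pslEquivPsl2 K)))
    ((pslEquivPsl2 K).injective.comp hi)
  by_cases h₀ : ∀ g, tr5 (ρ g)⁻¹ = tr5 (ρ g)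
  · exact .inl (fixQ_of_real5 h.qs.env_top (by rintro _ ⟨g, rfl⟩; exact h₀ g)).1
  push Not at h₀
  obtain ⟨g, h₀⟩ := h₀
  rcases l2_card hρ hK h₀ with ⟨h2, h3⟩ | ⟨h2, h3⟩
  · have := Fact.mk (by norm_num : Nat.Prime 7)
    obtain ⟨f⟩ := nonempty_ringEquiv_zmod (by norm_num) h2
    obtain ⟨f'⟩ := nonempty_equiv_psl
    let φ := (f'.trans (pslEquiv _ f).symm).trans (pslEquivPsl2 K)
    have h4 : (ρ.comp φ.toMonoidHom).range = ρ.range := by
      rw [MonoidHom.range_comp, MonoidHom.range_eq_top.2 φ.surjective, ← MonoidHom.range_eq_map]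
    exact (not_tri (ρ := ρ.comp φ.toMonoidHom) (h4 ▸ h.qs) (h4 ▸ hr) (hρ.comp φ.injective) h3
      (a := tab.el 2)
      (b := tab.el 2 * tab.el 1) (by decide +kernel) (by decide +kernel) (.inl (by decide +kernel))
      (isConj_iff.2 (by decide +kernel)) (by decide +kernel) (isConj_iff.2 (by decide +kernel))
      fun M h5 h6 => l27_gen (by simpa using mul_mem (inv_mem h5) h6) h5).elim
  · obtain ⟨p, hpF⟩ := CharP.exists F
    have hp : Fact p.Prime := ⟨CharP.char_is_prime F p⟩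
    have := Fact.mk (by norm_num : Nat.Prime 11)
    obtain ⟨f⟩ := nonempty_ringEquiv_zmod (by norm_num) h2
    exact .inr ⟨p, hp.out, hpF, .inl ⟨⟨e.trans (pslEquiv _ f)⟩,
      l2_exc p h.qs.env_top h.ns hρ h2 h3 h₀⟩⟩

end Cfsg.Lib.Five
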