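import Cfsg.Agent.Mit.MxBase
import Cfsg.Agent.Class.UCases
import Cfsg.Agent.Class.Asch.UnitSub
import Cfsg.Agent.Class.PGL2Sub
import Cfsg.Agent.Spor.M24Sub
import Cfsg.Agent.S0813
import Cfsg.Agent.S0815
import Cfsg.Agent.S2060

/-!
# Subgroups of `GL₅`: conjugation, orders modulo scalars, monomial groups
-/

set_option autoImplicit false

namespace Cfsg.Lib.Five.Mx

open Matrix Cfsg.Geo Cfsg.Lib.Class Cfsg.Lib.Class.Asch
open scoped MatrixGroups commutatorElement

variable {F : Type*} [Field F]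

local notation "G5" => GL (Fin 5) F
local notation "M5" => Matrix (Fin 5) (Fin 5) F
local notation "S5" => scalars (Fin 5) F
local notation "SL5" => specialLinear (Fin 5) F
local notation "sc" => scalarGL (Fin 5)

/-- The pull-back of a subgroup along conjugation. -/
def pl (g : G5) (X : Subgroup G5) : Subgroup G5 := X.comap (MulAut.conj g).toMonoidHom

section Pl

variable {P g : GL (Fin 5) F} {X Y : Subgroup (GL (Fin 5) F)}

theorem mem_pl : g ∈ pl P X ↔ P * g * P⁻¹ ∈ X := Iff.rfl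

theorem pl_mono (h : X ≤ Y) : pl P X ≤ pl P Y := Subgroup.comap_mono h

theorem pl_inf (P : G5) (X Y : Subgroup G5) : pl P (X ⊓ Y) = pl P X ⊓ pl P Y := rfl

theorem card_pl (P : G5) (X : Subgroup G5) : Nat.card (pl P X) = Nat.card X := by
  rw [← Subgroup.card_map_of_injective (K := pl P X) (f := (MulAut.conj P).toMonoidHom)
    (MulEquiv.injective _), pl, Subgroup.map_comap_eq_self_of_surjective (MulEquiv.surjective _)]

theorem conj_mem_S (P g : G5) : P * g * P⁻¹ ∈ S5 ↔ g ∈ S5 :=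
  ⟨fun h => by simpa [mul_assoc] using scalars_normal.conj_mem _ h P⁻¹,
    fun h => scalars_normal.conj_mem _ h P⟩

theorem pl_SL (P : G5) : pl P SL5 = SL5 := by
  ext g
  simp [mem_pl, AL.mem_specialLinear]

theorem pl_pl (P Q : G5) (X : Subgroup G5) : pl P (pl Q X) = pl (Q * P) X := by
  ext g
  simp [mem_pl, mul_assoc]

theorem pl_one (X : Subgroup G5) : pl 1 X = X := Subgroup.ext fun g => by simp [mem_pl]

theorem pl_inv_pl (P : G5) (X : Subgroup G5) : pl P⁻¹ (pl P X) = X := by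
  rw [pl_pl, mul_inv_cancel, pl_one]

theorem pl_pl_inv (P : G5) (X : Subgroup G5) : pl P (pl P⁻¹ X) = X := by
  rw [pl_pl, inv_mul_cancel, pl_one]

theorem pl_of_nrmG {R G : Subgroup G5} (h : NrmG R G) (hP : P ∈ R) : pl P G = G :=
  Subgroup.ext fun g => ⟨fun hg => by
    simpa [mul_assoc] using h _ (inv_mem hP) _ (mem_pl.1 hg), fun hg => h _ hP _ hg⟩

/-- A subgroup containing a conjugate of itself. -/
theorem le_of_pl [Finite F] {M G : Subgroup G5} (h : pl P X = M ⊓ G) (hle : M ⊓ G ≤ X) : X ≤ M :=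
  (Subgroup.eq_of_le_of_card_ge hle (by rw [← card_pl P X, h])).ge.trans inf_le_left

theorem isMaximalIn_of_pl [Finite F] {G M M' : Subgroup G5} (P : G5) (e1 : pl P G = G)
    (e2 : pl P M = M') (h1 : ¬ G ≤ M)
    (h : ∀ X, IsMaximalIn G X → M' ⊓ G ≤ X → X ≤ M') : IsMaximalIn G (M ⊓ G) :=
  Mit.Mx.isMaximalIn_of h1 fun X hX hle => by
    subst e2
    have e3 : pl P⁻¹ G = G := by rw [← e1, pl_inv_pl, e1]
    have hm : IsMaximalIn G (pl P X) := by
      refine ⟨lt_of_le_of_ne (e1 ▸ pl_mono hX.1.le) fun e => hX.1.ne ?_, fun N h2 h3 => ?_⟩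
      · rw [← pl_inv_pl P X, e, e3]
      · refine (hX.2 (pl P⁻¹ N) (pl_inv_pl P X ▸ pl_mono h2) (e3 ▸ pl_mono h3)).imp
          (fun e => ?_) fun e => ?_
        · rw [← e, pl_pl_inv]
        · rw [← pl_pl_inv P N, e, e1]
    have := pl_mono (P := P⁻¹) (h _ hm (by rw [← e1]; exact pl_mono hle))
    rwa [pl_inv_pl, pl_inv_pl] at this

theorem Irr.not_le (h : Irr X) {W : Submodule F (Fin 5 → F)} (h0 : W ≠ ⊥)
    (h1 : W ≠ ⊤) : ¬ X ≤ subspaceStabilizer W := fun hle =>
  (h W fun g hg v hv => ((mem_subspaceStabilizer W g).1 (hle hg) v).1 hv).elim h0 h1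

theorem pow_five_of_S (h : g ∈ S5) (h' : g ∈ SL5) : g ^ 5 = 1 := by
  obtain ⟨c, rfl⟩ := h
  have : (c : F) ^ 5 = 1 := by simpa using AL.mem_specialLinear'.1 h'
  change sc c ^ 5 = 1
  rw [← map_pow, show c ^ 5 = 1 from Units.ext (by simpa using this), map_one]

end Pl

/-! ## Orders modulo scalars -/

/-- The order of the image of `X` modulo scalars. -/
noncomputable def cb (X : Subgroup G5) : ℕ := (scalars (Fin 5) F).relIndex X

section Cb

variable {X Y : Subgroup (GL (Fin 5) F)} {g : GL (Fin 5) F}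

theorem cb_eq (X : Subgroup G5) : cb X = Nat.card (X.map (QuotientGroup.mk' S5)) := by
  rw [← Subgroup.relIndex_ker, QuotientGroup.ker_mk', cb]

theorem cb_dvd (h : X ≤ Y) : cb X ∣ cb Y := by
  rw [cb_eq, cb_eq]
  exact Subgroup.card_dvd_of_le (Subgroup.map_mono h)

theorem cb_dvd_of_hom {Γ : Type*} [Group Γ] (φ : X →* Γ) (h : ∀ g : X, φ g = 1 → g.1 ∈ S5) :
    cb X ∣ Nat.card Γ :=
  (Subgroup.index_dvd_of_le (H := φ.ker) (K := (scalars (Fin 5) F).subgroupOf X) h).trans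
    (Subgroup.index_ker φ ▸ Subgroup.card_subgroup_dvd_card _)

theorem cb_eq_card (h : ∀ g ∈ X, g ∈ S5 → g = 1) : cb X = Nat.card X := by
  rw [cb, Subgroup.relIndex, show (scalars (Fin 5) F).subgroupOf X = ⊥ from
    eq_bot_iff.2 fun g hg => Subtype.ext (h _ g.2 hg), Subgroup.index_bot]

theorem pow_cb_mem (hg : g ∈ X) : g ^ cb X ∈ S5 := by
  have := pow_card_eq_one' (x := (⟨_, Subgroup.mem_map_of_mem (QuotientGroup.mk' S5) hg⟩ :
    X.map (QuotientGroup.mk' S5)))
  rw [← cb_eq, Subtype.ext_iff] at this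
  rw [← QuotientGroup.eq_one_iff]
  simpa using this

theorem pow_eq_one_of_cb (hX : X ≤ SL5) (hg : g ∈ X) {n : ℕ} (h : cb X ∣ n) : g ^ (n * 5) = 1 := by
  obtain ⟨k, rfl⟩ := h
  rw [pow_mul]
  exact pow_five_of_S (pow_mul g _ k ▸ pow_mem (pow_cb_mem hg) k) (pow_mem (hX hg) _)

theorem card_dvd_cb [Finite F] (hX : X ≤ SL5) : Nat.card X ∣ 5 * cb X := by
  rw [← ((scalars (Fin 5) F).subgroupOf X).card_mul_index]
  refine mul_dvd_mul_right ?_ _
  rw [← IsCyclic.exponent_eq_card]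
  exact Monoid.exponent_dvd_of_forall_pow_eq_one fun g =>
    Subtype.ext (Subtype.ext (pow_five_of_S g.2 (hX g.1.2)))

theorem cb_dvd_aut {H P : Subgroup G5} (h : IsResidualCore H P) {Γ : Type*} [Group Γ]
    (e : (P ⧸ (scalars (Fin 5) F).subgroupOf P) ≃* Γ) : cb H ∣ Nat.card (MulAut Γ) := by
  let π := QuotientGroup.mk' S5
  have e2 : (P ⧸ (scalars (Fin 5) F).subgroupOf P) ≃* P.map π :=
    ((QuotientGroup.quotientMulEquivOfEq (by rw [MonoidHom.ker_domRestrict, QuotientGroup.ker_mk'])).trans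
      (QuotientGroup.quotientKerEquivRange (π.domRestrict P))).trans
        (MulEquiv.subgroupCongr (MonoidHom.domRestrict_range P π))
  rw [← Nat.card_congr (MulAut.congr (e2.symm.trans e)).toEquiv]
  have hn : ∀ g : H, π g ∈ Subgroup.normalizer (P.map π : Set (G5 ⧸ S5)) := fun g =>
    NrmG.le_normalizer (H := H.map π) (by
      rintro _ ⟨a, ha, rfl⟩ _ ⟨x, hx, rfl⟩
      exact ⟨_, h.normal a ha x hx, by simp⟩) ⟨g, g.2, rfl⟩
  refine cb_dvd_of_hom ((P.map π).normalizerMonoidHom.comp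
    ((π.comp H.subtype).codRestrict _ hn)) fun g hg => h.centralizer_scalar _ g.2 fun x hx => ?_
  have : (⟨π g, hn g⟩ : Subgroup.normalizer (P.map π : Set (G5 ⧸ S5))) ∈
      (P.map π).normalizerMonoidHom.ker := hg
  rw [Subgroup.normalizerMonoidHom_ker, Subgroup.mem_subgroupOf, Subgroup.mem_centralizer_iff] at this
  have := this _ ⟨x, hx, rfl⟩
  rw [← QuotientGroup.eq_one_iff]
  change π _ = 1
  rw [map_mul, map_mul, map_mul, ← this]
  simp

theorem aut_l211 : Nat.card (MulAut PSL(2, ZMod 11)) = 1320 := by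
  have : Fact (Nat.Prime 11) := ⟨by norm_num⟩
  rw [Agent.S0813.result 11 1 le_rfl (by simp) 2 le_rfl (by norm_num), card_PGL2]
  simp

theorem aut_m11 : Nat.card (MulAut Spor.M11) ∣ 7920 := by
  rw [Subgroup.card_eq_card_quotient_mul_card_subgroup (Inn Spor.M11)]
  erw [Agent.S2060.result]
  rw [one_mul, ← Spor.MP.card_M11]
  exact Subgroup.card_range_dvd _

theorem aut_u42 {K : Type} [Field K] [Fintype K] (hK : Fintype.card K = 4) :
    Nat.card (MulAut (PSU 4 K 2)) = 51840 := by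
  have h := Form.card_PSU (F := K) (q := 2) hK 4 (by norm_num)
  have : Form.guOrder 2 4 = 77760 := by decide
  rw [Agent.S0815.result 2 1 le_rfl (pow_one 2).symm hK 4 (by norm_num) (by norm_num)]
  norm_num [this] at h ⊢
  omega

end Cb

end Cfsg.Lib.Five.Mx
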