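import Cfsg.Agent.Class.Five.MxA

/-!
# Monomial subgroups of `GL₅`
-/

set_option autoImplicit false

namespace Cfsg.Lib.Five.Mx

open Matrix Cfsg.Geo Cfsg.Lib.Class Cfsg.Lib.Class.Asch Equiv
open scoped MatrixGroups commutatorElement

variable {F : Type*} [Field F]

local notation "G5" => GL (Fin 5) F
local notation "M5" => Matrix (Fin 5) (Fin 5) F
local notation "S5" => scalars (Fin 5) F
local notation "SL5" => specialLinear (Fin 5) F
local notation "sc" => scalarGL (Fin 5)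

/-- Diagonal matrices. -/
def dg : (Fin 5 → Fˣ) →* G5 where
  toFun a := ⟨diagonal fun i => (a i : F), diagonal fun i => ((a i)⁻¹ : Fˣ), by simp, by simp⟩
  map_one' := Units.ext (by simp)
  map_mul' a b := Units.ext (by simp)

@[simp] theorem coe_dg (a : Fin 5 → Fˣ) : (dg a : M5) = diagonal fun i => (a i : F) := rfl

theorem dg_injective : Function.Injective (dg (F := F)) := fun a b h => funext fun i =>
  Units.ext (by simpa using congrArg (fun g : G5 => (g : M5) i i) h)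

theorem dg_mem_SL {a : Fin 5 → Fˣ} (h : ∏ i, a i = 1) : dg a ∈ SL5 := by
  simpa [AL.mem_specialLinear'] using congrArg Units.val h

/-- Permutation matrices. -/
def pm : Perm (Fin 5) →* G5 := (permMatrixHom (R := F)).toHomUnits

theorem pm_apply (s : Perm (Fin 5)) (i j : Fin 5) :
    (pm s : G5).1 i j = if i = s j then 1 else 0 := by
  simp [pm, permMatrixHom_apply, PEquiv.toMatrix_apply, Equiv.symm_apply_eq]

theorem pm_mulVec (s : Perm (Fin 5)) (v : Fin 5 → F) : (pm s : G5).1 *ᵥ v = v ∘ s.symm :=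
  permMatrix_mulVec _

theorem pm_mem_SL {s : Perm (Fin 5)} (h : Perm.sign s = 1) : pm s ∈ SL5 := by
  simp [AL.mem_specialLinear', pm, permMatrixHom_apply, h]

theorem pm_injective : Function.Injective (pm (F := F)) :=
  (injective_iff_map_eq_one _).2 fun s h => Equiv.ext fun j => by
    have := pm_apply (F := F) s j j
    rw [h] at this
    by_contra e
    rw [if_neg (fun k => e k.symm)] at this
    simp at this

theorem pm_dg (s : Perm (Fin 5)) (a : Fin 5 → Fˣ) : pm s * dg a * (pm s)⁻¹ = dg (a ∘ s.symm) := by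
  rw [mul_inv_eq_iff_eq_mul]
  ext i j
  simp only [Units.val_mul, coe_dg, mul_diagonal, diagonal_mul, pm_apply]
  split_ifs with h <;> simp [h]

theorem comm_dg_pm (s : Perm (Fin 5)) (a : Fin 5 → Fˣ) :
    ⁅dg a, (pm s : G5)⁆ = dg (a * (a ∘ s.symm)⁻¹) := by
  rw [map_mul, map_inv, ← pm_dg, commutatorElement_def]
  group

/-- `g` is monomial with permutation `s`. -/
def Pm (g : G5) (s : Perm (Fin 5)) : Prop := ∀ i j, i ≠ s j → (g : M5) i j = 0

namespace Pm

variable {g h : GL (Fin 5) F} {s t : Perm (Fin 5)}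

theorem ne (hg : Pm g s) (j : Fin 5) : (g : M5) (s j) j ≠ 0 := fun h0 => by
  have : (g : M5) *ᵥ Pi.single j 1 = 0 := by
    ext i
    by_cases e : i = s j
    · simp [e, h0]
    · simp [hg i j e]
  simpa using congrFun (coe_mulVec_eq_zero g this) j

theorem unique (hg : Pm g s) (hg' : Pm g t) : s = t :=
  Equiv.ext fun j => by_contra fun e => hg.ne j (hg' _ _ e)

theorem mul (hg : Pm g s) (hh : Pm h t) : Pm (g * h) (s * t) := fun i j e => by
  rw [Units.val_mul, mul_apply]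
  refine Finset.sum_eq_zero fun k _ => ?_
  by_cases e' : k = t j
  · rw [hg i k (e' ▸ e), zero_mul]
  · rw [hh k j e', mul_zero]

theorem exists_dg (hg : Pm g 1) : ∃ a, g = dg a :=
  ⟨fun i => Units.mk0 _ (hg.ne i), Units.ext (by
    ext i j
    by_cases e : i = j
    · simp [e]
    · simp [e, hg i j e])⟩

end Pm

theorem pm_dg_one (a : Fin 5 → Fˣ) : Pm (dg a) 1 := fun i j e => by
  simpa using diagonal_apply_ne _ e

theorem pm_pm (s : Perm (Fin 5)) : Pm (pm s : G5) s := fun i j e => by rw [pm_apply, if_neg e]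

/-- The coordinate axes. -/
def axes (F : Type*) [Field F] (i : Fin 5) : Submodule F (Fin 5 → F) := F ∙ Pi.single i 1

/-- The monomial group. -/
def Mon (F : Type*) [Field F] : Subgroup (GL (Fin 5) F) := decompositionStabilizer (axes F)

theorem mem_Mon {g : G5} : g ∈ Mon F ↔ ∃ s, Pm g s := by
  refine exists_congr fun s => ⟨fun h i j e => ?_, fun h j => ?_⟩
  · obtain ⟨c, hc⟩ := Submodule.mem_span_singleton.1 ((h j).le
      (Submodule.mem_map_of_mem (Submodule.mem_span_singleton_self _)))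
    simpa [e] using (congrFun hc i).symm
  · rw [axes, axes, Submodule.map_span, Set.image_singleton,
      ← Submodule.span_singleton_smul_eq (Ne.isUnit (h.ne j)) (Pi.single (s j) (1 : F) : Fin 5 → F)]
    congr 2
    ext i
    by_cases e : i = s j
    · simp [e]
    · simp [e, h i j e]

theorem dg_mem_Mon (a : Fin 5 → Fˣ) : dg a ∈ Mon F := mem_Mon.2 ⟨1, pm_dg_one a⟩

theorem pm_mem_Mon (s : Perm (Fin 5)) : pm s ∈ Mon F := mem_Mon.2 ⟨s, pm_pm s⟩

/-- The permutation of a monomial matrix. -/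
noncomputable def pr : Mon F →* Perm (Fin 5) :=
  MonoidHom.mk' (fun g => (mem_Mon.1 g.2).choose) fun g h => (mem_Mon.1 (g * h).2).choose_spec.unique
    ((mem_Mon.1 g.2).choose_spec.mul (mem_Mon.1 h.2).choose_spec)

theorem pm_pr (g : Mon F) : Pm g.1 (pr g) := (mem_Mon.1 g.2).choose_spec

theorem exists_frame_pl {D : Fin 5 → Submodule F (Fin 5 → F)} (hD : IsMDecomposition 1 D)
    {v : Fin 5 → Fin 5 → F} (hv : ∀ i, v i ∈ D i) (hv0 : ∀ i, v i ≠ 0) :
    ∃ P : G5, (∀ i, (P : M5) *ᵥ Pi.single i 1 = v i) ∧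
      pl P (decompositionStabilizer D) = Mon F := by
  have hl : LinearIndependent F (Matrix.of v)ᵀ.col := hD.indep.linearIndependent D hv hv0
  obtain ⟨P, hP⟩ := Matrix.linearIndependent_cols_iff_isUnit.1 hl
  have e : ∀ i, (P : M5) *ᵥ Pi.single i 1 = v i := fun i => by ext j; simp [hP]
  have e' : ∀ i, D i = (axes F i).map (toLin' (P : M5)) := fun i => by
    rw [axes, Submodule.map_span, Set.image_singleton, toLin'_apply, e]
    exact eq_span_singleton_of_mem_of_finrank_eq_one (hD.finrank_eq i) (hv i) (hv0 i)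
  refine ⟨P, e, Subgroup.ext fun g => exists_congr fun s => forall_congr' fun i => ?_⟩
  rw [e', e', ← Submodule.map_comp, ← toLin'_mul]
  change Submodule.map (toLin' (((P * g * P⁻¹ : G5) : M5) * (P : M5))) _ = _ ↔ _
  rw [← Units.val_mul, inv_mul_cancel_right, Units.val_mul, toLin'_mul, Submodule.map_comp]
  exact (Submodule.map_injective_of_injective fun x y h => by
    simpa only [inv_mulVec_mulVec, toLin'_apply] using
      congrArg (((P⁻¹ : G5) : M5) *ᵥ ·) h).eq_iff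

theorem exists_pl_Mon {D : Fin 5 → Submodule F (Fin 5 → F)} (hD : IsMDecomposition 1 D) :
    ∃ P : G5, pl P (decompositionStabilizer D) = Mon F := by
  choose v hv hv0 using AL.IsMDecomposition.exists_ne_zero hD
  exact (exists_frame_pl hD hv hv0).imp fun _ h => h.2

theorem exists_pl_on {σ : F ≃+* F} {f : (Fin 5 → F) → (Fin 5 → F) → F} [Finite F]
    (hf : IsSesq σ 1 f) (hσ : σ ≠ RingEquiv.refl F)
    (h1 : ∀ i j, f (Pi.single i 1) (Pi.single j 1) = if i = j then 1 else 0)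
    {D : Fin 5 → Submodule F (Fin 5 → F)} (hD : IsNondegenerateMDecomposition f 1 D) :
    ∃ P ∈ isoms f, pl P (decompositionStabilizer D) = Mon F := by
  have p := hf.pre
  have k : ∀ i, ∃ v ∈ D i, f v v = 1 := fun i => by
    obtain ⟨d, hd, hd0⟩ := AL.IsMDecomposition.exists_ne_zero hD.decomp i
    have e := eq_span_singleton_of_mem_of_finrank_eq_one (hD.decomp.finrank_eq i) hd hd0
    have hdd : f d d ≠ 0 := fun h0 => by
      obtain ⟨x, hx, hx'⟩ := (hD.nondegenerate i d hd hd0).1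
      obtain ⟨c, rfl⟩ := Submodule.mem_span_singleton.1 (e ▸ hx)
      simp [p.smul_left, h0] at hx'
    obtain ⟨x, hx⟩ := Form.exists_norm_eq (σ := (σ : F →+* F))
      (fun k => hσ (RingEquiv.ext fun a => RingHom.congr_fun k a)) hf.invol (μ := (f d d)⁻¹)
      (by rw [map_inv₀]; exact congrArg _ ((hf.symm d d).trans (one_mul _)).symm)
    refine ⟨x • d, Submodule.smul_mem _ _ hd, ?_⟩
    rw [p.smul_left, p.smul_right, ← mul_assoc, mul_comm x]
    exact (congrArg (· * f d d) hx).trans (inv_mul_cancel₀ hdd)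
  choose v hv hv' using k
  obtain ⟨P, hP, e⟩ := exists_frame_pl hD.decomp hv fun i h => by
    simpa [h, p.zero_left] using hv' i
  refine ⟨P, (p.comp_mulVec P P).ext_single p fun i j => ?_, e⟩
  rw [hP, hP, h1]
  split_ifs with h
  · rw [h, hv']
  · exact hD.orthogonal i j h _ (hv i) _ (hv j)

variable {X : Subgroup (GL (Fin 5) F)}

/-- `X` has a normal diagonalisable subgroup with quotient in `S₅`. -/
def PD (X : Subgroup G5) : Prop := ∃ T : Subgroup G5, NrmG X T ∧ (∀ g ∈ T, ∀ h ∈ T, g * h = h * g) ∧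
  (∀ g ∈ T, g ^ (Nat.card F - 1) = 1 ∧ ∃ c : F, ((g : M5) - c • 1).det = 0) ∧
  (∀ g ∈ X, g ^ 120 ∈ T) ∧ ∀ E ≤ X, (∀ g ∈ E, g ∈ T → g ∈ S5) → cb E ∣ 120

theorem pD_of_pl {P : G5} (h : pl P X ≤ Mon F) : PD X := by
  have k : ∀ g : X, P⁻¹ * g.1 * P⁻¹⁻¹ ∈ Mon F := fun g => h (by simp [mem_pl, mul_assoc])
  let φ : X →* Perm (Fin 5) :=
    pr.comp (((MulAut.conj P⁻¹).toMonoidHom.comp X.subtype).codRestrict _ k)
  have hφ : ∀ g ∈ φ.ker.map X.subtype, ∃ a, g = P * dg a * P⁻¹ := by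
    rintro _ ⟨g, hg, rfl⟩
    have := pm_pr ⟨_, k g⟩
    rw [show pr ⟨_, k g⟩ = 1 from hg] at this
    obtain ⟨a, ha⟩ := this.exists_dg
    exact ⟨a, by rw [← ha]; simp [mul_assoc]⟩
  have hc : Nat.card (Perm (Fin 5)) = 120 := by simp [Fintype.card_perm, Nat.factorial]
  refine ⟨φ.ker.map X.subtype, ?_, fun g hg h hh => ?_, fun g hg => ?_, fun g hg => ?_,
    fun E hE hE' => hc ▸ cb_dvd_of_hom (φ.comp (Subgroup.inclusion hE)) fun g hg =>
      hE' _ g.2 ⟨_, hg, rfl⟩⟩
  · rintro g hg _ ⟨x, hx, rfl⟩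
    exact ⟨_, φ.normal_ker.conj_mem x hx ⟨g, hg⟩, rfl⟩
  · obtain ⟨a, rfl⟩ := hφ g hg
    obtain ⟨b, rfl⟩ := hφ h hh
    rw [conj_mul, conj_mul, ← map_mul, ← map_mul, mul_comm a]
  · obtain ⟨a, rfl⟩ := hφ g hg
    refine ⟨?_, a 0, ?_⟩
    · rw [conj_pow, ← map_pow, show a ^ (Nat.card F - 1) = 1 from funext fun i => by
        rw [← Nat.card_units]; exact pow_card_eq_one']
      simp
    · have : ((P * dg a * P⁻¹ : G5) : M5) - (a 0 : F) • 1 = cj P ((dg a : M5) - (a 0 : F) • 1) := by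
        rw [map_sub, map_smul, map_one, cj_coe]
      rw [this, cj_apply, det_mul, det_mul, coe_dg, smul_one_eq_diagonal, diagonal_sub, det_diagonal,
        Finset.prod_eq_zero (Finset.mem_univ 0) (sub_self _)]
      simp
  · exact ⟨⟨g, hg⟩ ^ 120, by rw [SetLike.mem_coe, MonoidHom.mem_ker, map_pow, ← hc, pow_card_eq_one'],
      rfl⟩

/-- `X` contains the monomial matrices with entries in `μ`, even permutation and determinant one. -/
structure MB (μ : Subgroup Fˣ) (X : Subgroup G5) : Prop where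
  d : ∀ a : Fin 5 → Fˣ, (∀ i, a i ∈ μ) → ∏ i, a i = 1 → dg a ∈ X
  p : ∀ s, Perm.sign s = 1 → pm s ∈ X

/-- No four-group. -/
def NoFour (X : Subgroup G5) : Prop :=
  ∀ a ∈ X, ∀ b ∈ X, a * a = 1 → b * b = 1 → a * b = b * a → a = 1 ∨ b = 1 ∨ a = b

/-- No involution. -/
def NoInv (X : Subgroup G5) : Prop := ∀ g ∈ X, g * g = 1 → g = 1

theorem NoInv.noFour (h : NoInv X) : NoFour X := fun a ha _ _ e _ _ => Or.inl (h a ha e)

/-- A relation between the traces of commutators and of their inverses. -/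
def PT (X : Subgroup G5) (r : F → F → Prop) : Prop :=
  ∀ a ∈ X, ∀ b ∈ X, r ((⁅a, b⁆ : G5) : M5).trace ((⁅a, b⁆⁻¹ : G5) : M5).trace

namespace MB

variable {μ : Subgroup Fˣ}

theorem not_noFour (h : MB μ X) : ¬ NoFour X := fun k => by
  have := k _ (h.p (swap 0 1 * swap 2 3) (by decide)) _ (h.p (swap 0 2 * swap 1 3) (by decide))
  simp only [← map_mul, ← map_one (pm (F := F)), pm_injective.eq_iff] at this
  revert this
  decide

theorem irr (h : MB μ X) {x : Fˣ} (hx : x ∈ μ) (hx' : (x : F) ^ 2 ≠ 1) : Irr X := fun W hW => by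
  refine or_iff_not_imp_left.2 fun h0 => ?_
  obtain ⟨v, hv, hv0⟩ := (Submodule.ne_bot_iff W).1 h0
  have tr : ∀ i j : Fin 5, ∃ s : Perm (Fin 5), Perm.sign s = 1 ∧ s i = j := by decide +kernel
  obtain ⟨i, hi⟩ := Function.ne_iff.1 hv0
  obtain ⟨s, hs, rfl⟩ : ∃ s : Perm (Fin 5), Perm.sign s = 1 ∧ s.symm 0 = i := by
    obtain ⟨s, h1, rfl⟩ := tr i 0 |>.imp fun s h => (⟨h.1, by rw [← h.2]; simp⟩ :
      Perm.sign s = 1 ∧ s.symm 0 = i)
    exact ⟨s, h1, rfl⟩
  have hw := hW _ (h.p s hs) v hv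
  rw [pm_mulVec] at hw
  have hd := hW _ (h.d ![x, x⁻¹, 1, 1, 1] (fun i => by fin_cases i <;> simp [hx])
    (by simp [Fin.prod_univ_five]))
  have k : ∀ t : F, ∀ w ∈ W, ![(x - t) * w 0, ((x : F)⁻¹ - t) * w 1, (1 - t) * w 2, (1 - t) * w 3,
      (1 - t) * w 4] ∈ W := fun t w hw => by
    convert sub_mem (hd w hw) (W.smul_mem t hw) using 1
    ext i; fin_cases i <;> simp [mulVec_diagonal] <;> ring
  have h1 : (x : F) - 1 ≠ 0 := fun e => hx' (by rw [sub_eq_zero.1 e, one_pow])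
  have h2 : (x : F) - (x : F)⁻¹ ≠ 0 := fun e => hx' (by
    rw [sq]; nth_rw 2 [sub_eq_zero.1 e]; simp)
  have e0 : Pi.single 0 1 ∈ W := by
    refine (W.smul_mem_iff (mul_ne_zero h2 (mul_ne_zero h1 hi))).1 ?_
    convert k (x : F)⁻¹ _ (k 1 _ hw) using 1
    ext i; fin_cases i <;> simp
  refine eq_top_iff.2 fun u _ => ?_
  rw [← Finset.univ_sum_single u]
  refine W.sum_mem fun j _ => ?_
  obtain ⟨t, ht, rfl⟩ := tr 0 j
  convert W.smul_mem (u (t 0)) (hW _ (h.p t ht) _ e0) using 1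
  rw [pm_mulVec]
  ext i
  simp [Pi.single_apply, Equiv.symm_apply_eq]

theorem dvd [Finite F] (h : MB μ X) (hX : X ≤ SL5) : 3 * Nat.card μ ^ 4 ∣ 5 * cb X := by
  refine Dvd.dvd.trans ?_ ((Subgroup.card_dvd_of_le (inf_le_left (b := Mon F))).trans
    (card_dvd_cb hX))
  let φ : (X ⊓ Mon F : Subgroup G5) →* Perm (Fin 5) := pr.comp (Subgroup.inclusion inf_le_right)
  rw [← φ.ker.card_mul_index, Subgroup.index_ker, mul_comm]
  refine mul_dvd_mul ?_ ?_
  · let ψ : (Fin 4 → μ) →* (Fin 5 → Fˣ) := MonoidHom.mk' (fun a => Fin.cons (∏ i, (a i : Fˣ))⁻¹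
      fun i => a i) fun a b => by
        ext i
        refine Fin.cases ?_ (fun i => ?_) i <;> simp [Finset.prod_mul_distrib, mul_comm]
    have k : ∀ a, dg (ψ a) ∈ X ⊓ Mon F := fun a => ⟨h.d _
      (Fin.cases (inv_mem (prod_mem fun i _ => (a i).2)) fun i => (a i).2)
      (by simp [ψ, Fin.prod_univ_succ]), dg_mem_Mon _⟩
    have := Subgroup.card_dvd_of_injective ((((dg.comp ψ).codRestrict _ k)).codRestrict φ.ker
      fun a => (pm_pr ⟨_, (k a).2⟩).unique (pm_dg_one _)) fun a b e => funext fun i =>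
        Subtype.ext (congrFun (dg_injective (congrArg (fun g => g.1.1) e)) i.succ)
    simpa [Nat.card_fun] using this
  · have hs : swap 0 1 * swap 1 2 ∈ φ.range :=
      ⟨⟨_, h.p (swap 0 1 * swap 1 2) (by decide), pm_mem_Mon _⟩, (pm_pr _).unique (pm_pm _)⟩
    have := Fact.mk Nat.prime_three
    exact orderOf_eq_prime (x := (swap 0 1 * swap 1 2 : Perm (Fin 5))) (p := 3) (by decide)
      (by decide) ▸ φ.range.orderOf_dvd_natCard hs

theorem tr1 (h : MB μ X) {r : F → F → Prop} (hr : PT X r) {x : Fˣ} (hx : x ∈ μ) :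
    r (x + (x : F)⁻¹ + 3) (x + (x : F)⁻¹ + 3) := by
  have := hr _ (h.d ![x, 1, x⁻¹, 1, 1] (fun i => by fin_cases i <;> simp [hx])
    (by simp [Fin.prod_univ_five])) _ (h.p (swap 0 1 * swap 3 4) (by decide))
  rw [comm_dg_pm, ← map_inv, coe_dg, coe_dg, trace_diagonal, trace_diagonal] at this
  have e : ⇑(swap 0 1 * swap 3 4 : Perm (Fin 5)).symm = ![1, 0, 2, 4, 3] := by decide
  convert this using 1 <;> simp [Fin.sum_univ_five, e] <;> ring

theorem tr2 (h : MB μ X) {r : F → F → Prop} (hr : PT X r) (h2 : ∀ a b, r a b → a = b) {x : Fˣ}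
    (hx : x ∈ μ) : (x : F) ^ 2 = 1 := by
  have := h2 _ _ (hr _ (h.d ![x, x ^ 2, 1, (x ^ 3)⁻¹, 1]
    (fun i => by fin_cases i <;> simp [hx, pow_mem]) (by simp [Fin.prod_univ_five, ← pow_succ']))
    _ (h.p (swap 0 1 * swap 1 2) (by decide)))
  rw [comm_dg_pm, ← map_inv, coe_dg, coe_dg, trace_diagonal, trace_diagonal] at this
  have e : ⇑(swap 0 1 * swap 1 2 : Perm (Fin 5)).symm = ![2, 0, 1, 3, 4] := by decide
  simp [Fin.sum_univ_five, e] at this
  have h0 := x.ne_zero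
  field_simp at this
  have : ((x : F) ^ 2 - 1) * (x - 1) ^ 2 = 0 := by linear_combination -this
  rcases mul_eq_zero.1 this with e | e
  · exact sub_eq_zero.1 e
  · rw [sub_eq_zero.1 (pow_eq_zero_iff two_ne_zero |>.1 e), one_pow]

end MB

end Cfsg.Lib.Five.Mx
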