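import Cfsg.Agent.Class.Five.MxB

/-!
# Field normalisers, subfield groups and similarity groups in `GL₅`
-/

set_option autoImplicit false

namespace Cfsg.Lib.Five.Mx

open Matrix Cfsg.Geo Cfsg.Lib.Class Cfsg.Lib.Class.Asch
open scoped MatrixGroups commutatorElement

variable {F : Type*} [Field F]

local notation "G5" => GL (Fin 5) F
local notation "M5" => Matrix (Fin 5) (Fin 5) F
local notation "S5" => scalars (Fin 5) F
local notation "SL5" => specialLinear (Fin 5) F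
local notation "sc" => scalarGL (Fin 5)

variable {K K' : Subalgebra F (Matrix (Fin 5) (Fin 5) F)} {g s P : GL (Fin 5) F}
  {X : Subgroup (GL (Fin 5) F)} {F₀ : Subfield F} {σ : F ≃+* F} {ε : F}
  {f : (Fin 5 → F) → (Fin 5 → F) → F}

/-! ## Subfield groups and similarity groups -/

theorem ratl_pow_five (hg : g ∈ subfieldSubgroup F₀ P) (hg' : g ∈ SL5) :
    Ratl F₀ P ((g ^ 5 : G5) : M5) := by
  obtain ⟨a, c, e⟩ := (mem_subfieldSubgroup_iff F₀ P g).1 hg
  have h1 := AL.mem_specialLinear'.1 hg'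
  rw [e, det_smul, cj_apply, det_units_conj, Fintype.card_fin] at h1
  have h2 : (incl (Fin 5) F₀ a).det = ((a : Matrix (Fin 5) (Fin 5) F₀).det : F) :=
    ((Algebra.ofId F₀ F).map_det _).symm
  have h3 : (c : F) ^ 5 ∈ F₀ := by
    rw [eq_inv_of_mul_eq_one_left h1, h2]
    exact inv_mem (SetLike.coe_mem _)
  refine ratl_iff.2 ⟨(⟨_, h3⟩ : F₀) • (a : Matrix (Fin 5) (Fin 5) F₀) ^ 5, ?_⟩
  rw [Units.val_pow_eq_pow_val, e, smul_pow, ← map_pow, ← map_pow, map_smul, ← map_smul (cj P)]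
  rfl

theorem ratl_of_inv (hg : g ∈ subfieldSubgroup F₀ P) (hg' : g ∈ SL5) (e : g * g = 1) :
    Ratl F₀ P (g : M5) := by
  simpa [pow_succ, e] using ratl_pow_five hg hg'

open Polynomial in
theorem orderOf_le_of_ratl [Finite F] (hg : Ratl F₀ P (g : M5)) : orderOf g ≤ Nat.card F₀ ^ 5 := by
  obtain ⟨Y, hY⟩ := ratl_iff.1 hg
  have hd : ∀ k, (X ^ k %ₘ Y.charpoly).degree < (5 : ℕ) := fun k =>
    (degree_modByMonic_lt _ Y.charpoly_monic).trans_eq (by simp [charpoly_degree_eq_dim])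
  have := Nat.card_le_card_of_injective (fun k : Fin (orderOf g) =>
    degreeLTEquiv F₀ 5 ⟨X ^ k.1 %ₘ Y.charpoly, mem_degreeLT.2 (hd k)⟩) fun k l e => by
      have e := congrArg (fun p => cj P (incl (Fin 5) F₀ (aeval Y p.1))) ((degreeLTEquiv F₀ 5).injective e)
      simp only [← pow_eq_aeval_mod_charpoly, map_pow, hY, ← Units.val_pow_eq_pow_val] at e
      exact Fin.ext (pow_injOn_Iio_orderOf k.2 l.2 (Units.ext e))
  simpa [Nat.card_fun] using this

theorem det_mem_of_ratl {x : M5} (h : Ratl F₀ P x) : x.det ∈ F₀ := by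
  obtain ⟨Y, rfl⟩ := ratl_iff.1 h
  rw [cj_apply, det_units_conj]
  exact ((Algebra.ofId F₀ F).map_det Y) ▸ SetLike.coe_mem _

theorem pT_subfield (h : X ≤ subfieldSubgroup F₀ P) : PT X fun a b => a ∈ F₀ ∧ b ∈ F₀ :=
  fun a ha b hb => ⟨(TvP.ratl_commutator (h ha) (h hb)).trace_mem,
    commutatorElement_inv a b ▸ (TvP.ratl_commutator (h hb) (h ha)).trace_mem⟩

theorem isom_pow_five (hf : IsSesq σ ε f) (hg : g ∈ similarityGroup f) (hg' : g ∈ SL5) :
    g ^ 5 ∈ isoms f := by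
  obtain ⟨c, -, e⟩ := hf.exists_adj_coe hg
  have h1 := hf.det_adj g
  rw [e, det_smul, AL.mem_specialLinear'.1 hg', AL.mem_specialLinear'.1 (inv_mem hg'), map_one,
    mul_one, Fintype.card_fin] at h1
  rw [hf.mem_isoms_iff, Units.val_pow_eq_pow_val, hf.adj_pow, e, smul_pow, h1, one_smul,
    ← Units.val_pow_eq_pow_val, ← Units.val_pow_eq_pow_val, ← Units.val_mul]
  simp

theorem comm_mem_isoms {a b : G5} (ha : a ∈ similarityGroup f) (hb : b ∈ similarityGroup f) :
    ⁅a, b⁆ ∈ isoms f := fun u v => by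
  obtain ⟨c, hc⟩ := ha
  obtain ⟨d, hd⟩ := hb
  have e := hd (a.1 *ᵥ (a⁻¹.1 *ᵥ (b⁻¹.1 *ᵥ u))) (a.1 *ᵥ (a⁻¹.1 *ᵥ (b⁻¹.1 *ᵥ v)))
  rw [hc, mulVec_inv_mulVec, mulVec_inv_mulVec, mulVec_inv_mulVec, mulVec_inv_mulVec] at e
  change f (⁅a, b⁆.1 *ᵥ u) (⁅a, b⁆.1 *ᵥ v) = f u v
  simp only [commutatorElement_def, coe_mul_mulVec]
  rw [hc, hd, e, mul_left_comm]

theorem pT_sim (hf : IsSesq σ ε f) (h : X ≤ similarityGroup f) : PT X fun a b => b = σ a :=
  fun _ ha _ hb => hf.trace_inv (comm_mem_isoms (h ha) (h hb))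

theorem card_le_two_mul [Finite F] {μ : Subgroup Fˣ} (h : ∀ x ∈ μ, (x : F) + (x : F)⁻¹ ∈ F₀) :
    Nat.card μ ≤ 2 * Nat.card F₀ := by
  classical
  have := Fintype.ofFinite μ
  have := Fintype.ofFinite F₀
  rw [Nat.card_eq_fintype_card, Nat.card_eq_fintype_card]
  refine Finset.card_le_mul_card_image_of_maps_to (f := fun x : μ => (⟨_, h x.1 x.2⟩ : F₀))
    (fun _ _ => Finset.mem_univ _) 2 fun y _ => ?_
  rcases Finset.eq_empty_or_nonempty (Finset.univ.filter fun x : μ => (⟨_, h x.1 x.2⟩ : F₀) = y)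
    with e | ⟨x, hx⟩
  · simp [e]
  refine le_trans (Finset.card_le_card (t := {x, x⁻¹}) fun z hz => ?_) Finset.card_le_two
  have e := congrArg Subtype.val ((Finset.mem_filter.1 hz).2.trans (Finset.mem_filter.1 hx).2.symm)
  have h1 := x.1.ne_zero
  have h2 := z.1.ne_zero
  simp only at e
  field_simp at e
  have : ((z.1 : F) - x.1) * (z.1 * x.1 - 1) = 0 := by linear_combination e
  rw [Finset.mem_insert, Finset.mem_singleton, eq_inv_iff_mul_eq_one]
  exact (mul_eq_zero.1 this).imp (fun e => Subtype.ext (Units.ext (sub_eq_zero.1 e)))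
    fun e => Subtype.ext (Units.ext (sub_eq_zero.1 e))

/-! ## Field normalisers -/

theorem eq_zero_of_det (hK : IsFieldSubalgebra 5 K) {x : M5} (hx : x ∈ K) (h : x.det = 0) :
    x = 0 := by_contra fun h0 => by
  obtain ⟨y, -, e⟩ := hK.inv x hx h0
  simpa [h] using congrArg det e

theorem mem_S_of_det (hK : IsFieldSubalgebra 5 K) (hg : (g : M5) ∈ K) {c : F}
    (h : ((g : M5) - c • 1).det = 0) : g ∈ S5 :=
  mem_scalars_of_eq (sub_eq_zero.1 (eq_zero_of_det hK (sub_mem hg (K.smul_mem K.one_mem c)) h))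

theorem mem_nrm_of_mem (hK : IsFieldSubalgebra 5 K) (hs : (s : M5) ∈ K) :
    s ∈ subalgebraNormalizer K := by
  have k : ∀ k ∈ K, cj s k = k := fun k hk => (cj_eq_self_iff _ _).2 (hK.comm _ hs _ hk)
  refine (mem_subalgebraNormalizer K s).2 fun x => ⟨fun hx => by rwa [k x hx], fun hx => ?_⟩
  rwa [(cj s).injective (k _ hx)] at hx

theorem pow_mem_K (hs : (s : M5) ∈ K) (n : ℕ) : ((s ^ n : G5) : M5) ∈ K :=
  Units.val_pow_eq_pow_val s n ▸ pow_mem hs n

theorem one_of_det_eq (hK : IsFieldSubalgebra 5 K) (hg : (g : M5) ∈ K) (hg' : g ∈ SL5)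
    (h2 : (2 : F) ≠ 0) (h : (1 - ((g⁻¹ : G5) : M5)).det = (1 - (g : M5)).det) : g = 1 := by
  have e : (1 - (g : M5)) = -((g : M5) * (1 - ((g⁻¹ : G5) : M5))) := by
    rw [mul_sub, Units.mul_inv, mul_one, neg_sub]
  have e2 := congrArg det e
  rw [det_neg, det_mul, AL.mem_specialLinear'.1 hg', h, Fintype.card_fin] at e2
  have := eq_zero_of_det hK (sub_mem K.one_mem hg)
    (mul_left_cancel₀ h2 (by linear_combination e2))
  exact Units.ext (sub_eq_zero.1 this).symm

theorem det_sub_inv (hf : IsSesq σ ε f) (hg : g ∈ isoms f) :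
    (1 - ((g⁻¹ : G5) : M5)).det = σ (1 - (g : M5)).det := by
  rw [← hf.det_adj, hf.adj_sub, hf.adj_one, hf.adj_coe hg]

variable [Fintype F]

theorem five_mem (hK : IsFieldSubalgebra 5 K) (hg : g ∈ subalgebraNormalizer K) :
    ((g ^ 5 : G5) : M5) ∈ K := by
  let _ := (isField_of_isFieldSubalgebra hK).toField
  have hN := nrm_of_le_subalgebraNormalizer (le_refl (subalgebraNormalizer K))
  have : Finite K := Module.finite_of_finite F
  have e : hN.restrict hg ^ 5 = 1 := by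
    have := pow_card_eq_one' (x := hN.restrict hg)
    rwa [IsGalois.card_aut_eq_finrank, hK.finrank_eq] at this
  refine IsFieldSubalgebra.mem_of_comm (by simpa using hK) fun k hk => (cj_eq_self_iff _ _).1 ?_
  have := congrArg Subtype.val (AlgEquiv.congr_fun e ⟨k, hk⟩)
  simpa [pow_succ, cj_mul] using this

theorem noInv_field (hK : IsFieldSubalgebra 5 K) (h1 : X ≤ subalgebraNormalizer K) (h2 : X ≤ SL5) :
    NoInv X := fun g hg e => by
  have h3 := five_mem hK (h1 hg)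
  have h5 : g ^ 5 = g := by simp [pow_succ, e]
  rw [h5] at h3
  have h4 : ((g : M5) - (1 : F) • 1) * ((g : M5) - (-1 : F) • 1) = 0 := by
    simp [sub_mul, mul_add, ← Units.val_mul, e]
  have h6 := congrArg det h4
  rw [det_mul, det_zero, mul_eq_zero] at h6
  rw [← h5, pow_five_of_S (h6.elim (mem_S_of_det hK h3) (mem_S_of_det hK h3)) (h2 hg)]

theorem eq_of_nonscalar (hK : IsFieldSubalgebra 5 K) {A : Subalgebra F M5} (hA : A ≤ K)
    (hg : (g : M5) ∈ A) (hs : g ∉ S5) : A = K := by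
  have h := IsFieldSubalgebra.of_le hK hA
  rcases (Nat.dvd_prime Nat.prime_five).1 (by simpa using IsFieldSubalgebra.dvd_card h) with e | e
  · rw [Subalgebra.finrank_eq_one_iff.1 e, mem_bot_iff] at hg
    exact absurd ((mem_scalars_iff' g).2 hg) hs
  · exact Subalgebra.eq_of_le_of_finrank_eq hA (e.trans hK.finrank_eq.symm)

theorem field_eq (hK : IsFieldSubalgebra 5 K) (hK' : IsFieldSubalgebra 5 K') (hg : (g : M5) ∈ K)
    (hg' : (g : M5) ∈ K') (hs : g ∉ S5) : K = K' :=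
  (eq_of_nonscalar (A := K ⊓ K') hK inf_le_left ⟨hg, hg'⟩ hs).symm.trans
    (eq_of_nonscalar hK' inf_le_right ⟨hg, hg'⟩ hs)

theorem env_eq (hK : IsFieldSubalgebra 5 K) (hg : (g : M5) ∈ K) (hs : g ∉ S5) :
    env (Subgroup.zpowers g) = K :=
  eq_of_nonscalar hK (env_le fun x hx => by
    obtain ⟨n, rfl⟩ := mem_powers_iff_mem_zpowers.2 hx
    exact pow_mem_K hg n) (coe_mem_env (Subgroup.mem_zpowers g)) hs

theorem irr_of_field (hK : IsFieldSubalgebra 5 K) (hg : (g : M5) ∈ K) (hs : g ∉ S5)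
    (hX : g ∈ X) : Irr X := fun W hW => by
  refine or_iff_not_imp_left.2 fun h0 => ?_
  obtain ⟨v, hv, hv0⟩ := (Submodule.ne_bot_iff W).1 h0
  let φ : K →ₗ[F] W :=
    { toFun := fun k => ⟨k.1 *ᵥ v, mulVec_mem_of_mem_env
        (fun x hx => hW x (Subgroup.zpowers_le.2 hX hx)) ((env_eq hK hg hs).ge k.2) hv⟩
      map_add' := fun k l => Subtype.ext (add_mulVec k.1 l.1 v)
      map_smul' := fun c k => Subtype.ext (smul_mulVec c k.1 v) }
  have := LinearMap.finrank_le_finrank_of_injective (f := φ)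
    ((injective_iff_map_eq_zero _).2 fun k hk => Subtype.ext (eq_zero_of_det hK k.2
      (exists_mulVec_eq_zero_iff.1 ⟨v, hv0, congrArg Subtype.val hk⟩)))
  rw [hK.finrank_eq] at this
  exact Submodule.eq_top_of_finrank_eq (le_antisymm (Submodule.finrank_le W) (by simpa using this))

theorem exists_singer (hK : IsFieldSubalgebra 5 K) {N : ℕ} (hN : N ∣ Fintype.card F ^ 4 +
    Fintype.card F ^ 3 + Fintype.card F ^ 2 + Fintype.card F + 1) :
    ∃ s : G5, (s : M5) ∈ K ∧ s ∈ SL5 ∧ orderOf s = N := by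
  let _ := (isField_of_isFieldSubalgebra hK).toField
  have : Finite K := Module.finite_of_finite F
  have hcK : Nat.card K = Fintype.card F ^ 5 := by
    rw [IsFieldSubalgebra.natCard hK, Nat.card_eq_fintype_card]
  obtain ⟨n, hn⟩ : ∃ n, Fintype.card F = n + 2 := ⟨_, (Nat.sub_add_cancel Fintype.one_lt_card).symm⟩
  have e : Fintype.card F ^ 5 - 1 = (Fintype.card F ^ 4 + Fintype.card F ^ 3 + Fintype.card F ^ 2 +
      Fintype.card F + 1) * (Fintype.card F - 1) := by
    rw [hn, Nat.sub_eq_of_eq_add]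
    change _ = _ * (n + 1) + 1
    ring
  have hdet : ∀ u : K, algebraMap F K (u : M5).det = u ^ (Fintype.card F ^ 4 + Fintype.card F ^ 3 +
      Fintype.card F ^ 2 + Fintype.card F + 1) := fun u => by
    have h1 := Module.finrank_mul_finrank F K (Fin 5 → F)
    rw [hK.finrank_eq, Module.finrank_fin_fun] at h1
    have h2 : Module.finrank K (Fin 5 → F) = 1 := by omega
    have : FiniteDimensional K (Fin 5 → F) := Module.Finite.of_finite
    have h3 : toLin' (u : M5) =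
        (u • LinearMap.id : (Fin 5 → F) →ₗ[K] (Fin 5 → F)).restrictScalars F := rfl
    rw [← LinearMap.det_toLin', h3, LinearMap.det_restrictScalars, LinearMap.det_smul, h2,
      LinearMap.det_id, mul_one, pow_one, FiniteField.algebraMap_norm_eq_pow, hcK,
      Nat.card_eq_fintype_card, e, Nat.mul_div_cancel _ (by omega)]
  obtain ⟨u, hu⟩ := IsCyclic.exists_ofOrder_eq_natCard (α := Kˣ)
  have ho := orderOf_pow_orderOf_div (x := u) (n := N) (orderOf_pos u).ne' (by
    rw [hu, Nat.card_units, hcK, e]; exact hN.mul_right _)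
  generalize u ^ (orderOf u / N) = w at ho
  let ι : Kˣ →* G5 := Units.map (K.val : K →* M5)
  refine ⟨ι w, (w : K).2, AL.mem_specialLinear'.2 ((algebraMap F K).injective ?_),
    (orderOf_injective ι (Units.map_injective Subtype.val_injective) w).trans ho⟩
  refine (hdet w).trans ?_
  rw [← Units.val_pow_eq_pow_val, orderOf_dvd_iff_pow_eq_one.1 (ho ▸ hN), map_one, Units.val_one]

theorem exists_adj_pow (hK : IsFieldSubalgebra 5 K) (hf : IsSesq σ ε f)
    (hσ : σ ≠ RingEquiv.refl F) (h : ∀ x ∈ K, adj σ f x ∈ K) {q : ℕ}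
    (hF : Fintype.card F = q ^ 2) : ∀ x ∈ K, adj σ f x = x ^ q ^ 5 := by
  obtain ⟨t, ht, ht'⟩ := IsFieldSubalgebra.exists_card_eq_sq hK hf h fun h => hσ
    (RingEquiv.ext fun c => by
      have := h _ (K.smul_mem K.one_mem c)
      rw [hf.adj_smul_one] at this
      simpa using congrFun (congrFun this 0) 0)
  rw [Nat.card_eq_fintype_card, hF, ← pow_mul, mul_comm, pow_mul] at ht
  rwa [← Nat.pow_left_injective two_ne_zero ht] at ht'

theorem pow_eq_one_of_isom (hK : IsFieldSubalgebra 5 K) (hf : IsSesq σ ε f)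
    (hσ : σ ≠ RingEquiv.refl F) {q : ℕ} (hF : Fintype.card F = q ^ 2) (hg : (g : M5) ∈ K)
    (hs : g ∉ S5) (hg' : g ∈ isoms f) : g ^ (q ^ 5 + 1) = 1 := by
  have := exists_adj_pow hK hf hσ (fun x hx => env_eq hK hg hs ▸ hf.adj_mem_env
    ((Subgroup.zpowers_le.2 hg').trans (isoms_le_similarityGroup f)) ((env_eq hK hg hs).ge hx))
    hF _ hg
  refine Units.ext ?_
  rw [Units.val_pow_eq_pow_val, pow_succ, ← this, (hf.mem_isoms_iff g).1 hg', Units.val_one]

theorem mem_GU_of_pow {q : ℕ} (hF : Fintype.card F = q ^ 2) (hK : IsFieldSubalgebra 5 K)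
    (hK' : IsAdjointClosedFor (hermForm 5 F q) K) (hs : (s : M5) ∈ K) (h : s ^ (q ^ 5 + 1) = 1) :
    s ∈ GU 5 F q := by
  have hf := isSesq_of_isUnitaryFormPow hF (isUnitaryFormPow_hermForm hF 5)
  refine (hf.mem_isoms_iff s).2 ?_
  rw [exists_adj_pow hK hf (frobqEquiv_ne_refl hF)
    (fun x hx => hf.adj_mem_of_isAdjointClosedFor hK' hx) hF _ hs, ← pow_succ,
    ← Units.val_pow_eq_pow_val, h, Units.val_one]

end Cfsg.Lib.Five.Mx
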