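import Cfsg.Agent.Class.Five.MxC

/-!
# Normalisers of extraspecial groups of order `125` in `GL₅`
-/

set_option autoImplicit false

namespace Cfsg.Lib.Five.Mx

open Matrix Cfsg.Geo Cfsg.Lib.Class Cfsg.Lib.Class.Asch
open scoped MatrixGroups commutatorElement

variable {F : Type*} [Field F]

local notation "G5" => GL (Fin 5) F
local notation "M5" => Matrix (Fin 5) (Fin 5) F
local notation "S5" => scalars (Fin 5) F
local notation "SL5" => specialLinear (Fin 5) F
local notation "sc" => scalarGL (Fin 5)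
local notation "V2" => ZMod 5 × ZMod 5

/-- Powers with exponent modulo five. -/
def pw {Γ : Type*} [Monoid Γ] (x : Γ) (a : ZMod 5) : Γ := x ^ a.val

theorem pw_add {Γ : Type*} [Monoid Γ] {x : Γ} (h : x ^ 5 = 1) (a b : ZMod 5) :
    pw x (a + b) = pw x a * pw x b := by rw [pw, ZMod.val_add, ← pow_eq_pow_mod _ h, pow_add, pw, pw]

theorem pw_one {Γ : Type*} [Monoid Γ] (x : Γ) : pw x 1 = x := pow_one x

theorem pw_zero {Γ : Type*} [Monoid Γ] (x : Γ) : pw x 0 = 1 := pow_zero x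

/-- `r s = k s r`. -/
def Cm (r s : G5) (k : Fˣ) : Prop := r * s = sc k * (s * r)

namespace Cm

variable {r s t : GL (Fin 5) F} {k l : Fˣ}

theorem iff : Cm r s k ↔ (r : M5) * s = (k : F) • ((s : M5) * r) := by
  rw [Cm, Units.ext_iff, coe_scalarGL_mul]; rfl

theorem unique (h : Cm r s k) (h' : Cm r s l) : k = l :=
  scalarGL_injective (mul_right_cancel (h.symm.trans h'))

theorem smul (a b : Fˣ) : Cm (sc a * r) (sc b * s) k ↔ Cm r s k := by
  simp only [iff, coe_scalarGL_mul, Matrix.smul_mul, Matrix.mul_smul, smul_smul]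
  rw [mul_comm (a : F), mul_comm (k : F), mul_smul ((b : F) * a)]
  exact (smul_right_injective _ (mul_ne_zero b.ne_zero a.ne_zero)).eq_iff

theorem conj (h : Cm r s k) (g : G5) : Cm (g * r * g⁻¹) (g * s * g⁻¹) k := by
  rw [Cm, conj_mul, conj_mul, h, ← conj_mul, conj_scalarGL]

theorem mul (h : Cm r t k) (h' : Cm s t l) : Cm (r * s) t (k * l) := by
  rw [Cm, mul_assoc, h', ← mul_assoc, scalarGL_comm, mul_assoc, ← mul_assoc r, h, mul_comm k, map_mul]
  simp only [mul_assoc]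

theorem inv (h : Cm r t k) : Cm r⁻¹ t k⁻¹ := by
  rw [Cm, map_inv, eq_inv_mul_iff_mul_eq, eq_mul_inv_iff_mul_eq, mul_assoc, mul_assoc,
    ← scalarGL_comm, mul_assoc, scalarGL_comm, ← h, inv_mul_cancel_left]

theorem symm (h : Cm r t k) : Cm t r k⁻¹ := by rw [Cm, map_inv, h, inv_mul_cancel_left]

theorem pow (h : Cm r t k) (n : ℕ) : Cm (r ^ n) t (k ^ n) := by
  induction n with
  | zero => simp [Cm]
  | succ n ih => rw [pow_succ, pow_succ]; exact ih.mul h

theorem five (h : Cm r t k) : k ^ 5 = 1 := Units.ext (by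
  have := congrArg det (iff.1 h)
  rw [det_smul, det_mul, det_mul, mul_comm] at this
  simpa using mul_right_cancel₀ (mul_ne_zero t.det_ne_zero r.det_ne_zero)
    (this.symm.trans (one_mul _).symm))

end Cm

/-- A Heisenberg pair in `R`. -/
structure Hp (R : Subgroup G5) (ω : Fˣ) (x z : G5) : Prop where
  cl : Cl2 5 R
  ne : ω ≠ 1
  mx : x ∈ R
  mz : z ∈ R
  cm : Cm z x ω

/-- Representatives of the Heisenberg group modulo scalars. -/
def ee (x z : G5) (u : V2) : G5 := pw x u.1 * pw z u.2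

/-- The action of `g` on the Heisenberg group modulo scalars. -/
def Ac (x z g : G5) (A : V2 → V2) : Prop := ∀ u, ∃ c, g * ee x z u * g⁻¹ = sc c * ee x z (A u)

variable {R R' X : Subgroup (GL (Fin 5) F)} {ω : Fˣ} {x z x' z' g k : GL (Fin 5) F}
  {A B : ZMod 5 × ZMod 5 → ZMod 5 × ZMod 5}

theorem ee_one_zero : ee x z (1, 0) = x := by simp [ee, pw_one, pw_zero]

theorem ee_zero_one : ee x z (0, 1) = z := by simp [ee, pw_one, pw_zero]

theorem ee_zero : ee x z 0 = 1 := by simp [ee, pw_zero]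

/-- The linear map with the given columns. -/
def lin (a b u : V2) : V2 := u.1 • a + u.2 • b

/-- An anisotropic map of order six. -/
def an : V2 → V2 := id ∘ (lin (1, 1) (-1, 0))^[5]

theorem lin_sq : ∀ a b : V2, a.2 * b.1 - b.2 * a.1 = -1 → (∀ u, (lin a b ∘ lin a b) u = id u) →
    (∀ u, lin a b u = id u) ∨ ∀ u, lin a b u = -u := by decide +kernel

theorem lin_sixty : ∀ a b : V2, a.2 * b.1 - b.2 * a.1 = -1 →
    (lin a b)^[60] (1, 0) = (1, 0) ∧ (lin a b)^[60] (0, 1) = (0, 1) := by decide +kernel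

theorem an_aniso : ∀ u : V2, u.2 * (an u).1 - (an u).2 * u.1 = 0 → u = 0 := by decide +kernel

theorem an_six : an^[6] (1, 0) = (1, 0) ∧ an^[6] (0, 1) = (0, 1) := by decide +kernel

theorem an_ne : an^[75] (1, 0) ≠ id (1, 0) := by decide +kernel

theorem Ac.mul (hg : Ac x z g A) (hh : Ac x z k B) : Ac x z (g * k) (A ∘ B) := fun u => by
  obtain ⟨c, hc⟩ := hh u
  obtain ⟨d, hd⟩ := hg (B u)
  refine ⟨c * d, ?_⟩
  rw [show g * k * ee x z u * (g * k)⁻¹ = g * (k * ee x z u * k⁻¹) * g⁻¹ by group, hc, ← conj_mul,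
    conj_scalarGL, hd, map_mul, mul_assoc]
  rfl

theorem Ac.sc (c : Fˣ) : Ac x z (sc c) id := fun _ =>
  ⟨1, by rw [← scalarGL_comm, mul_inv_cancel_right, map_one, one_mul, id]⟩

theorem Ac.one : Ac x z 1 id := fun _ => ⟨1, by simp⟩

theorem Ac.pow (hg : Ac x z g A) (n : ℕ) : Ac x z (g ^ n) A^[n] := by
  induction n with
  | zero => simpa using Ac.one
  | succ n ih => rw [pow_succ]; exact ih.mul hg

theorem cl_pow (h : Cl2 5 R) (hx : x ∈ R) : x ^ 5 = 1 := h.pow x hx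

theorem exists_pw (h1 : ω ≠ 1) (h5 : ω ^ 5 = 1) {k : Fˣ} (hk : k ^ 5 = 1) : ∃ a, k = pw ω a := by
  have := Fact.mk Nat.prime_five
  have hp : IsPrimitiveRoot (ω : F) 5 :=
    IsPrimitiveRoot.coe_units_iff.2 (orderOf_eq_prime h5 h1 ▸ IsPrimitiveRoot.orderOf ω)
  obtain ⟨i, hi, e⟩ := hp.eq_pow_of_pow_eq_one (ξ := (k : F)) (by simpa using congrArg Units.val hk)
  exact ⟨i, Units.ext (by rw [pw, ZMod.val_natCast, Nat.mod_eq_of_lt hi, ← e]; simp)⟩

theorem exists_hp (hR : Cl2 5 R) (h1 : ω ≠ 1) (h5 : ω ^ 5 = 1) : ∃ x z, Hp R ω x z := by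
  obtain ⟨x, hx, hx'⟩ := SetLike.not_le_iff_exists.1
    (not_le_scalars_of_env_eq_top hR.two_le hR.env_top)
  obtain ⟨y, hy, c, hc1, hc, e⟩ := hR.exists_comm_ne hx hx'
  obtain ⟨a, rfl⟩ := exists_pw hc1 hc h5
  exact ⟨x, _, hR, h1, hx, pow_mem hy _, Cm.pow e _⟩

theorem cb_cl [Finite F] (hR : Cl2 5 R) : cb R = 25 := by
  have := hR.card_quotient_center
  rwa [hR.center_eq] at this

namespace Hp

theorem pw_inj (h : Hp R ω x z) {a b : ZMod 5} (e : pw ω a = pw ω b) : a = b := by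
  have := Fact.mk Nat.prime_five
  have o := orderOf_eq_prime h.cm.five h.ne
  exact ZMod.val_injective 5 (pow_injOn_Iio_orderOf (a.val_lt.trans_eq o.symm)
    (b.val_lt.trans_eq o.symm) e)

theorem cm_pw (h : Hp R ω x z) (a b : ZMod 5) : Cm (pw z a) (pw x b) (pw ω (a * b)) := by
  have := ((h.cm.pow a.val).symm.pow b.val).symm
  rwa [inv_pow, inv_inv, ← pow_mul, pow_eq_pow_mod _ h.cm.five, ← ZMod.val_mul] at this

theorem ee_mul (h : Hp R ω x z) (u v : V2) :
    ee x z u * ee x z v = sc (pw ω (u.2 * v.1)) * ee x z (u + v) := by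
  simp only [ee, Prod.fst_add, Prod.snd_add, pw_add (cl_pow h.cl h.mx), pw_add (cl_pow h.cl h.mz),
    mul_assoc]
  rw [← mul_assoc (pw z _), h.cm_pw, mul_assoc, ← mul_assoc (pw x u.1), scalarGL_comm]
  simp only [mul_assoc]

theorem cm_ee (h : Hp R ω x z) (u v : V2) :
    Cm (ee x z u) (ee x z v) (pw ω (u.2 * v.1 - v.2 * u.1)) := by
  rw [Cm, h.ee_mul, h.ee_mul, ← mul_assoc, ← map_mul, ← pw_add h.cm.five, sub_add_cancel, add_comm]

theorem ee_inj (h : Hp R ω x z) {a b : Fˣ} {u v : V2} (e : sc a * ee x z u = sc b * ee x z v) :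
    u = v := by
  have k : ∀ w : V2, u.2 * w.1 - w.2 * u.1 = v.2 * w.1 - w.2 * v.1 := fun w => h.pw_inj
    (((Cm.smul a 1).2 (h.cm_ee u w)).unique (e ▸ (Cm.smul b 1).2 (h.cm_ee v w)))
  exact Prod.ext (by simpa using k (0, 1)) (by simpa using k (1, 0))

theorem ac_unique (h : Hp R ω x z) (h1 : Ac x z g A) (h2 : Ac x z g B) : A = B :=
  funext fun u => by
    obtain ⟨c, hc⟩ := h1 u
    obtain ⟨d, hd⟩ := h2 u
    exact h.ee_inj (hc.symm.trans hd)

theorem ee_mem (h : Hp R ω x z) (u : V2) : ee x z u ∈ R :=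
  mul_mem (pow_mem h.mx _) (pow_mem h.mz _)

/-- The representatives form a basis of the matrix algebra. -/
noncomputable def bas (h : Hp R ω x z) : Module.Basis V2 F M5 :=
  basisOfLinearIndependentOfCardEqFinrank (h.cl.linearIndependent (ee x z) h.ee_mem
    fun u v ⟨c, hc⟩ => h.ee_inj (a := c) (b := 1) (by
      rw [map_one, one_mul, ← scalarGL_comm, ← eq_inv_mul_iff_mul_eq]; exact hc))
    (by simp [Module.finrank_matrix])

theorem bas_apply (h : Hp R ω x z) (u : V2) : h.bas u = (ee x z u : M5) := by simp [bas]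

theorem mem_S (h : Hp R ω x z) {r : G5} (h1 : r * x = x * r) (h2 : r * z = z * r) : r ∈ S5 := by
  refine (mem_scalars_iff' r).2 (eq_smul_one_of_forall_comm fun y => ?_)
  rw [← h.bas.sum_repr y, Finset.mul_sum, Finset.sum_mul]
  refine Finset.sum_congr rfl fun u _ => ?_
  rw [h.bas_apply, Matrix.mul_smul, Matrix.smul_mul, ← Units.val_mul, ← Units.val_mul,
    show r * ee x z u = ee x z u * r from
      ((Commute.pow_right h1 _).mul_right (Commute.pow_right h2 _)).eq]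

theorem mem_iff (h : Hp R ω x z) {r : G5} : r ∈ R ↔ ∃ a u, r = sc (pw ω a) * ee x z u := by
  refine ⟨fun hr => ?_, ?_⟩
  · obtain ⟨k, hk5, hk⟩ := h.cl.comm r hr x h.mx
    obtain ⟨l, hl5, hl⟩ := h.cl.comm r hr z h.mz
    obtain ⟨a, rfl⟩ := exists_pw h.ne h.cm.five hk5
    obtain ⟨b, rfl⟩ := exists_pw h.ne h.cm.five hl5
    have h1 := Cm.mul hk (ee_one_zero (x := x) (z := z) ▸ h.cm_ee (-b, a) (1, 0)).inv
    have h2 := Cm.mul hl (ee_zero_one (x := x) (z := z) ▸ h.cm_ee (-b, a) (0, 1)).inv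
    obtain ⟨c, hc⟩ := h.mem_S (by simpa [Cm] using h1) (by simpa [Cm] using h2)
    have e5 := cl_pow h.cl (mul_mem hr (inv_mem (h.ee_mem (-b, a))))
    rw [← hc] at e5
    obtain ⟨d, rfl⟩ := exists_pw h.ne h.cm.five (k := c) (scalarGL_injective (ι := Fin 5)
      (by rw [map_pow, map_one]; exact e5))
    exact ⟨d, _, (eq_mul_inv_iff_mul_eq.1 hc).symm⟩
  · rintro ⟨c, u, rfl⟩
    rw [pw, map_pow]
    exact mul_mem (pow_mem (scalarGL_mem_of_comm h.mz h.mx h.cm) _) (h.ee_mem u)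

theorem five_mem (h : Hp R ω x z) (hg : Ac x z g A) (e : A (1, 0) = (1, 0) ∧ A (0, 1) = (0, 1)) :
    g ^ 5 ∈ S5 := by
  obtain ⟨c, hc⟩ := hg (1, 0)
  obtain ⟨d, hd⟩ := hg (0, 1)
  rw [e.1, ee_one_zero, mul_inv_eq_iff_eq_mul, mul_assoc] at hc
  rw [e.2, ee_zero_one, mul_inv_eq_iff_eq_mul, mul_assoc] at hd
  have h1 := Cm.pow hc 5
  have h2 := Cm.pow hd 5
  rw [Cm.five hc] at h1
  rw [Cm.five hd] at h2
  exact h.mem_S (by simpa [Cm] using h1) (by simpa [Cm] using h2)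

theorem pow_eq_one (h : Hp R ω x z) (hg : Ac x z g A) (e : A (1, 0) = (1, 0) ∧ A (0, 1) = (0, 1))
    (hg' : g ∈ SL5) : g ^ 25 = 1 :=
  (pow_mul g 5 5).trans (pow_five_of_S (h.five_mem hg e) (pow_mem hg' 5))

theorem exists_ac (h : Hp R ω x z) (hg : g ∈ subgroupNormalizer R) :
    ∃ a b : V2, a.2 * b.1 - b.2 * a.1 = -1 ∧ Ac x z g (lin a b) := by
  choose c A hA using fun u => h.mem_iff.1 ((hg _).1 (h.ee_mem u))
  let φ : V2 →+ V2 := AddMonoidHom.mk' A fun u v => by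
    have := congrArg (fun x => g * x * g⁻¹) (h.ee_mul u v)
    simp only [← conj_mul, conj_scalarGL, hA] at this
    rw [← mul_assoc, mul_assoc (sc _), scalarGL_comm, mul_assoc, mul_assoc, h.ee_mul] at this
    simp only [← mul_assoc, ← map_mul] at this
    exact (h.ee_inj this).symm
  refine ⟨A (1, 0), A (0, 1), h.pw_inj ?_, fun u => ⟨pw ω (c u), (hA u).trans ?_⟩⟩
  · have := (h.cm_ee (1, 0) (0, 1)).conj g
    rw [hA, hA, Cm.smul] at this
    simpa using (h.cm_ee _ _).unique this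
  · congr 2
    change φ u = u.1 • φ (1, 0) + u.2 • φ (0, 1)
    rw [← ZMod.map_smul, ← ZMod.map_smul, ← map_add]
    simp

theorem noFour (h : Hp R ω x z) (h1 : X ≤ subgroupNormalizer R) (h2 : X ≤ SL5) : NoFour X := by
  have k : ∀ g ∈ X, g * g = 1 → Ac x z g id → g = 1 := fun g hg e ha => by
    simpa [pow_succ, mul_assoc, e] using h.pow_eq_one ha ⟨rfl, rfl⟩ (h2 hg)
  have k' : ∀ g ∈ X, g * g = 1 → g = 1 ∨ Ac x z g fun u => -u := fun g hg e => by
    obtain ⟨a, b, h3, h4⟩ := h.exists_ac (h1 hg)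
    exact (lin_sq a b h3 (congrFun (h.ac_unique (h4.mul h4) (e ▸ Ac.one)))).imp
      (fun e' => k g hg e (by rwa [funext e'] at h4)) fun e' => by rwa [funext e'] at h4
  intro a ha b hb e1 e2 e3
  refine (k' a ha e1).imp_right fun h3 => (k' b hb e2).imp_right fun h4 => ?_
  have := k _ (mul_mem ha hb) (by
    rw [mul_assoc, ← mul_assoc b, ← e3, mul_assoc, e2, mul_one, e1]) (by
      convert h3.mul h4 using 1; ext <;> simp)
  rw [eq_inv_of_mul_eq_one_left this, inv_eq_of_mul_eq_one_right e2]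

theorem pow_1500 (h : Hp R ω x z) (h1 : g ∈ subgroupNormalizer R) (h2 : g ∈ SL5) :
    g ^ 1500 = 1 := by
  obtain ⟨a, b, h3, h4⟩ := h.exists_ac h1
  exact (pow_mul g 60 25).trans (h.pow_eq_one (h4.pow 60) (lin_sixty a b h3) (pow_mem h2 60))

theorem exists_conj (h : Hp R ω x z) (h' : Hp R' ω x' z') :
    ∃ g : G5, g * x * g⁻¹ = x' ∧ g * z * g⁻¹ = z' ∧ pl g R' = R := by
  let φ := h.bas.equiv h'.bas (Equiv.refl _)
  have e : ∀ u, φ (ee x z u : M5) = (ee x' z' u : M5) := fun u => by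
    rw [← h.bas_apply, Module.Basis.equiv_apply, h'.bas_apply, Equiv.refl_apply]
  have hm : ∀ a b, φ (a * b) = φ a * φ b := fun a b => by
    rw [← h.bas.sum_repr a, ← h.bas.sum_repr b]
    simp only [Finset.sum_mul, Finset.mul_sum, map_sum, map_smul, Matrix.smul_mul, Matrix.mul_smul,
      h.bas_apply, e, ← Units.val_mul, h.ee_mul, h'.ee_mul, coe_scalarGL_mul]
  obtain ⟨g, hg⟩ := exists_cj_eq (AlgEquiv.ofLinearEquiv φ (by simpa [ee_zero] using e 0) hm)
  have k : ∀ u, g * ee x z u * g⁻¹ = ee x' z' u := fun u =>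
    Units.ext (by rw [← cj_coe, ← hg]; exact e u)
  refine ⟨g, by simpa [ee_one_zero] using k (1, 0), by simpa [ee_zero_one] using k (0, 1),
    Subgroup.ext fun r => ?_⟩
  rw [mem_pl, h.mem_iff, h'.mem_iff]
  refine exists₂_congr fun a u => ?_
  rw [← k, ← conj_scalarGL (pw ω a) g, conj_mul, mul_left_inj, mul_right_inj, conj_scalarGL]

theorem pl_normalizer (e : pl g R' = R) : pl g (subgroupNormalizer R') = subgroupNormalizer R :=
  e ▸ Subgroup.comap_normalizer_eq_of_surjective _ (MulEquiv.surjective _)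

theorem exists_elt [Finite F] (h : Hp R ω x z) : ∃ g ∈ subgroupNormalizer R, ∀ X ≤ SL5, R ≤ X →
    sc (GeneralLinearGroup.det g)⁻¹ * g ^ 5 ∈ X → ¬ PD X ∧ ¬ NoInv X := by
  obtain ⟨g, e1, e2, e⟩ := h.exists_conj (R' := R) (x' := ee x z (1, 1)) (z' := ee x z (-1, 0))
    ⟨h.cl, h.ne, h.ee_mem _, h.ee_mem _, by simpa [pw_one] using h.cm_ee (-1, 0) (1, 1)⟩
  have hg : g ∈ subgroupNormalizer R := fun r => by
    change r ∈ R ↔ r ∈ pl g R
    rw [e]
  obtain ⟨a, b, -, hA⟩ := h.exists_ac hg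
  obtain rfl : a = (1, 1) := by
    obtain ⟨c, hc⟩ := hA (1, 0)
    rw [ee_one_zero, e1] at hc
    simpa [lin] using h.ee_inj (b := 1) (hc.symm.trans (by rw [map_one, one_mul]))
  obtain rfl : b = (-1, 0) := by
    obtain ⟨c, hc⟩ := hA (0, 1)
    rw [ee_zero_one, e2] at hc
    simpa [lin] using h.ee_inj (b := 1) (hc.symm.trans (by rw [map_one, one_mul]))
  refine ⟨g, hg, fun X hX hR hk => ?_⟩
  have hB : Ac x z _ an := (Ac.sc (GeneralLinearGroup.det g)⁻¹).mul (hA.pow 5)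
  generalize sc (GeneralLinearGroup.det g)⁻¹ * g ^ 5 = k at hk hB
  constructor
  · rintro ⟨T, h1, h2, -, -, h3⟩
    have := mt (h3 R hR) (by rw [cb_cl h.cl]; decide)
    push Not at this
    obtain ⟨r, hr, hT, hS⟩ := this
    obtain ⟨a, u, rfl⟩ := h.mem_iff.1 hr
    obtain ⟨c, hc⟩ := hB u
    have h4 := h2 _ hT _ (h1 _ hk _ hT)
    rw [← conj_mul, conj_scalarGL, hc, ← mul_assoc (sc _) (sc c), ← map_mul] at h4
    generalize pw ω a * c = d at h4
    have h6 : Cm (sc (pw ω a) * ee x z u) (sc d * ee x z (an u)) (pw ω 0) := by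
      rw [Cm, pw_zero, map_one, one_mul]; exact h4
    have h5 := h.pw_inj (((Cm.smul _ _).2 (h.cm_ee u (an u))).unique h6)
    obtain rfl := an_aniso u h5
    exact hS (by simpa [ee_zero] using scalarGL_mem _)
  · intro hI
    have h6 := h.pow_eq_one (hB.pow 6) an_six (pow_mem (hX hk) 6)
    have := hI _ (pow_mem hk 75) (by rw [← pow_add]; exact (pow_mul k 6 25).trans h6)
    exact an_ne (congrFun (h.ac_unique (hB.pow 75) (by rw [this]; exact Ac.one)) (1, 0))

end Hp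

theorem scale_mem_SL (g : G5) : sc (GeneralLinearGroup.det g)⁻¹ * g ^ 5 ∈ SL5 := by
  simp [AL.mem_specialLinear', coe_scalarGL_mul, ← mul_pow, g.det_ne_zero]

variable {σ : F ≃+* F} {ε : F} {f : (Fin 5 → F) → (Fin 5 → F) → F}

theorem scale_mem_isoms (hf : IsSesq σ ε f) (hg : g ∈ similarityGroup f) :
    sc (GeneralLinearGroup.det g)⁻¹ * g ^ 5 ∈ isoms f := by
  obtain ⟨c, -, e⟩ := hf.exists_adj_coe hg
  have h1 := hf.det_adj g
  rw [e, det_smul, Fintype.card_fin] at h1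
  rw [hf.mem_isoms_iff, coe_scalarGL_mul, hf.adj_smul, Units.val_pow_eq_pow_val, hf.adj_pow, e,
    smul_pow, Matrix.smul_mul, Matrix.smul_mul, Matrix.mul_smul, ← Units.val_pow_eq_pow_val,
    ← Units.val_pow_eq_pow_val, ← Units.val_mul, smul_smul, smul_smul]
  have h0 := g.det_ne_zero
  have h2 : σ (g : M5).det ≠ 0 := by simpa using h0
  have : c ^ 5 = σ (g : M5).det * (g : M5).det := by rw [← h1]; simp [h0]
  simp [this, h0, h2]

theorem sim_of_pl (hf : IsSesq σ ε f) (hR : env R = ⊤) (h1 : R ≤ isoms f) (h2 : R' ≤ isoms f)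
    (e : pl g R' = R) : g ∈ similarityGroup f := by
  obtain ⟨c, hc⟩ := hf.exists_eq_mul_of_isoms hR h1 (hf.comp g).pre fun r hr =>
    mem_isoms.2 fun u v => by
      have := mem_isoms.1 (h2 (mem_pl.1 (e ▸ hr))) (g.1 *ᵥ u) (g.1 *ᵥ v)
      simpa only [coe_mul_mulVec, inv_mulVec_mulVec] using this
  refine ⟨Units.mk0 c fun h0 => ?_, hc⟩
  simpa using congrFun ((hf.comp g).nondeg (Pi.single 0 1) fun x => by rw [hc, h0, zero_mul]) 0

end Cfsg.Lib.Five.Mx
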