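import Cfsg.Agent.Class.Five.MxE
import Cfsg.Agent.Class.PSL2Subfield

/-!
# Orthogonal groups over a subfield in `GL₅`
-/

set_option autoImplicit false

namespace Cfsg.Lib.Five.Mx

open Matrix Cfsg.Geo Cfsg.Lib.Class Cfsg.Lib.Class.Asch
open scoped MatrixGroups commutatorElement

variable {F : Type*} [Field F]

local notation "G5" => GL (Fin 5) F
local notation "M5" => Matrix (Fin 5) (Fin 5) F
local notation "S5" => scalars (Fin 5) F
local notation "SL5" => specialLinear (Fin 5) F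

/-- A diagonal bilinear form. -/
def Bf (b v w : Fin 5 → F) : F := (b * v) ⬝ᵥ w

variable {b a e u u' : Fin 5 → F} {F₀ F₁ : Subfield F} {P P₁ : GL (Fin 5) F}
  {X : Subgroup (GL (Fin 5) F)}

theorem Bf_eq (b v w : Fin 5 → F) : Bf b v w = ∑ i, b i * v i * w i := rfl

theorem Bf_comm (b v w : Fin 5 → F) : Bf b v w = Bf b w v := by
  rw [Bf_eq, Bf_eq]
  exact Finset.sum_congr rfl fun i _ => by ring

theorem Bf_add_left (b v v' w : Fin 5 → F) : Bf b (v + v') w = Bf b v w + Bf b v' w := by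
  rw [Bf, mul_add, add_dotProduct]; rfl

theorem Bf_add_right (b v w w' : Fin 5 → F) : Bf b v (w + w') = Bf b v w + Bf b v w' :=
  dotProduct_add _ _ _

theorem Bf_smul_left (b : Fin 5 → F) (c : F) (v w : Fin 5 → F) : Bf b (c • v) w = c * Bf b v w := by
  rw [Bf, mul_smul_comm, smul_dotProduct]; rfl

theorem Bf_smul_right (b : Fin 5 → F) (c : F) (v w : Fin 5 → F) : Bf b v (c • w) = c * Bf b v w :=
  dotProduct_smul _ _ _

theorem Bf_mem (hb : ∀ i, b i ∈ F₀) {v w : Fin 5 → F} (hv : ∀ i, v i ∈ F₀) (hw : ∀ i, w i ∈ F₀) :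
    Bf b v w ∈ F₀ := Bf_eq b v w ▸ sum_mem fun i _ => mul_mem (mul_mem (hb i) (hv i)) (hw i)

theorem vmv (a v w : Fin 5 → F) : vecMulVec a (b * v) *ᵥ w = Bf b v w • a := by
  rw [vecMulVec_mulVec, op_smul_eq_smul]; rfl

theorem mext {A B : M5} (h : ∀ v, A *ᵥ v = B *ᵥ v) : A = B :=
  toLin'.injective (LinearMap.ext h)

/-- Minus a reflection. -/
def rfM (b a : Fin 5 → F) : M5 := (2 / Bf b a a) • vecMulVec a (b * a) - 1

theorem rfM_apply (i j : Fin 5) :
    rfM b a i j = 2 / Bf b a a * (a i * (b j * a j)) - (1 : M5) i j := rfl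

theorem rfM_mulVec (v : Fin 5 → F) :
    rfM b a *ᵥ v = (2 / Bf b a a * Bf b a v) • a + (-1 : F) • v := by
  rw [rfM, sub_mulVec, smul_mulVec, vmv, one_mulVec, smul_smul, neg_one_smul, sub_eq_add_neg]

theorem rfM_mul (h : Bf b a a ≠ 0) : rfM b a * rfM b a = 1 := mext fun v => by
  rw [← mulVec_mulVec, rfM_mulVec, rfM_mulVec, one_mulVec, Bf_add_right, Bf_smul_right,
    Bf_smul_right]
  match_scalars <;> field_simp <;> ring

/-- Minus a reflection. -/
def rf (h : Bf b a a ≠ 0) : G5 := ⟨rfM b a, rfM b a, rfM_mul h, rfM_mul h⟩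

/-- Siegel transformations. -/
def sgM (b e u : Fin 5 → F) : M5 :=
  1 + vecMulVec u (b * e) - vecMulVec e (b * u) - (Bf b u u / 2) • vecMulVec e (b * e)

theorem sgM_apply (i j : Fin 5) : sgM b e u i j = (1 : M5) i j + u i * (b j * e j) -
    e i * (b j * u j) - Bf b u u / 2 * (e i * (b j * e j)) := rfl

theorem sgM_mulVec (v : Fin 5 → F) :
    sgM b e u *ᵥ v = v + Bf b e v • u + (-Bf b u v - Bf b u u / 2 * Bf b e v) • e := by
  simp only [sgM, sub_mulVec, add_mulVec, smul_mulVec, vmv, one_mulVec]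
  module

theorem sgM_mul (h2 : (2 : F) ≠ 0) (he : Bf b e e = 0) (hu : Bf b e u = 0) (hu' : Bf b e u' = 0) :
    sgM b e u * sgM b e u' = sgM b e (u + u') := mext fun v => by
  rw [← mulVec_mulVec]
  simp only [sgM_mulVec, Bf_add_left, Bf_add_right, Bf_smul_right, he, hu', Bf_comm b u e,
    hu, Bf_comm b u' u]
  match_scalars <;> field_simp <;> ring

theorem sgM_isom (h2 : (2 : F) ≠ 0) (he : Bf b e e = 0) (hu : Bf b e u = 0) (v w : Fin 5 → F) :
    Bf b (sgM b e u *ᵥ v) (sgM b e u *ᵥ w) = Bf b v w := by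
  simp only [sgM_mulVec, Bf_add_left, Bf_add_right, Bf_smul_left, Bf_smul_right, he, Bf_comm b u e,
    hu, Bf_comm b v e, Bf_comm b v u]
  field_simp
  ring

/-- `X` contains the special orthogonal group over `F₀` of a diagonal form. -/
structure MO (F₀ : Subfield F) (b : Fin 5 → F) (P : G5) (X : Subgroup G5) : Prop where
  two : (2 : F) ≠ 0
  mem : ∀ i, b i ∈ F₀
  ne : ∀ i, b i ≠ 0
  el : ∀ g : G5, (∀ i j, (g : M5) i j ∈ F₀) → (∀ v w, Bf b (g.1 *ᵥ v) (g.1 *ᵥ w) = Bf b v w) →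
    g ∈ SL5 → P * g * P⁻¹ ∈ X

theorem single_rat (F₀ : Subfield F) (a i : Fin 5) : (Pi.single a (1 : F) : Fin 5 → F) i ∈ F₀ := by
  rw [Pi.single_apply]
  split_ifs <;> simp

variable {σ : F ≃+* F} {f : (Fin 5 → F) → (Fin 5 → F) → F}

theorem exists_orth (hf : IsSesq σ 1 f) (hσ : ∀ x ∈ F₀, σ x = x) (h2 : (2 : F) ≠ 0)
    (hP : IsFormRationalStructure f F₀ 1 P) : ∃ R : GL (Fin 5) F₀, ∀ i j, i ≠ j →
      f (P.1 *ᵥ fun k => R.1 k i) (P.1 *ᵥ fun k => R.1 k j) = 0 := by
  have p := hf.pre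
  let c : (Fin 5 → F₀) → Fin 5 → F := fun u => P.1 *ᵥ fun i => u i
  have c1 : ∀ u v, c (u + v) = c u + c v := fun u v => by rw [← mulVec_add]; rfl
  have c2 : ∀ (t : F₀) u, c (t • u) = (t : F) • c u := fun t u => by rw [← mulVec_smul]; rfl
  have hm : ∀ u v, f (c u) (c v) ∈ F₀ := fun u v => by
    simpa using hP _ _ (fun i => (u i).2) fun i => (v i).2
  let B : LinearMap.BilinForm F₀ (Fin 5 → F₀) := LinearMap.mk₂ F₀ (fun u v => ⟨_, hm u v⟩)
    (fun u u' v => Subtype.ext (by simp [c1, p.add_left]))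
    (fun t u v => Subtype.ext (by simp [c2, p.smul_left]))
    (fun u v v' => Subtype.ext (by simp [c1, p.add_right]))
    (fun t u v => Subtype.ext (by simp [c2, p.smul_right, hσ]))
  have := invertibleOfNonzero (α := F₀) (a := 2) fun h => h2 (congrArg Subtype.val h)
  obtain ⟨v, hv⟩ := B.exists_orthogonal_basis ⟨fun u v => Subtype.ext (by
    change f (c u) (c v) = f (c v) (c u)
    rw [hf.symm (c u), hσ _ (hm u v), one_mul])⟩
  let e := finCongr (Module.finrank_fin_fun (n := 5) F₀)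
  have := (Pi.basisFun F₀ (Fin 5)).invertibleToMatrix (v.reindex e)
  refine ⟨unitOfInvertible ((Pi.basisFun F₀ (Fin 5)).toMatrix (v.reindex e)), fun i j h => ?_⟩
  have := congrArg Subtype.val (hv (e.symm.injective.ne h))
  change f (c _) (c _) = 0 at this
  simpa [Module.Basis.toMatrix_apply] using this

theorem exists_diag (hf : IsSesq σ 1 f) (hσ : ∀ x ∈ F₀, σ x = x) (h2 : (2 : F) ≠ 0)
    (hP : IsFormRationalStructure f F₀ 1 P) :
    ∃ (b : Fin 5 → F) (Q : G5), subfieldSubgroup F₀ Q = subfieldSubgroup F₀ P ∧ (∀ i, b i ∈ F₀) ∧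
      ∀ x y, f (Q.1 *ᵥ x) (Q.1 *ᵥ y) = Bf b x (σ ∘ y) := by
  obtain ⟨R, hR⟩ := exists_orth hf hσ h2 hP
  have e : ∀ i, (P * GeneralLinearGroup.map F₀.subtype R).1 *ᵥ Pi.single i 1 =
      P.1 *ᵥ fun k => R.1 k i := fun i => by
    rw [coe_mul_mulVec]
    congr 1
    ext j
    simp
  refine ⟨fun i => f (P.1 *ᵥ fun k => R.1 k i) (P.1 *ᵥ fun k => R.1 k i),
    P * GeneralLinearGroup.map F₀.subtype R, ?_,
    fun i => by simpa using hP _ _ (fun k => (R.1 k i).2) fun k => (R.1 k i).2, ?_⟩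
  · ext g
    simp only [subfieldSubgroup, Subgroup.mem_map_equiv, MulAut.conj_symm_apply]
    have hR : GeneralLinearGroup.map F₀.subtype R ∈
      (GeneralLinearGroup.map F₀.subtype).range ⊔ S5 := Subgroup.mem_sup_left ⟨_, rfl⟩
    rw [_root_.mul_inv_rev, ← mul_assoc, mul_assoc _ P⁻¹, mul_assoc _ (P⁻¹ * g),
      Subgroup.mul_mem_cancel_right _ hR, Subgroup.mul_mem_cancel_left _ (inv_mem hR)]
  · refine (hf.comp _).pre.ext_single ⟨fun x y v => Bf_add_left _ _ _ _,
      fun t x v => Bf_smul_left _ _ _ _, fun v x y => by rw [← Bf_add_right]; congr 1; ext; simp,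
      fun t v x => by rw [← Bf_smul_right]; congr 1; ext; simp⟩ fun i j => ?_
    rw [e, e, Bf_eq, Finset.sum_eq_single i (fun l _ h => by simp [h]) (by simp)]
    by_cases h : i = j
    · simp [h]
    · simpa [h] using hR i j h

theorem exists_mO (hf : IsSesq σ 1 f) (hσ : ∀ x ∈ F₀, σ x = x) (h2 : (2 : F) ≠ 0)
    (hP : IsFormRationalStructure f F₀ 1 P) :
    ∃ b Q, subfieldSubgroup F₀ Q = subfieldSubgroup F₀ P ∧
      MO F₀ b Q (subfieldSubgroup F₀ Q ⊓ (isoms f ⊓ SL5)) := by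
  obtain ⟨b, Q, h1, h3, k⟩ := exists_diag hf hσ h2 hP
  refine ⟨b, Q, h1, h2, h3, fun i h => ?_,
    fun g hg h1 h3 => ⟨?_, mem_isoms.2 fun x y => ?_, mem_pl.1 ((pl_SL Q).ge h3)⟩⟩
  · simpa using congrFun ((hf.comp Q).nondeg' (Pi.single i 1) fun x => by
      rw [k, Bf_eq, Finset.sum_eq_single i (fun l _ h => by simp [h]) (by simp), h]; simp) i
  · obtain ⟨Y, hY⟩ := exists_incl_iff.2 hg
    have hu : IsUnit Y := (isUnit_iff_isUnit_det _).2 (Ne.isUnit fun h => g.det_ne_zero (by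
      rw [← hY]; exact ((Algebra.ofId F₀ F).map_det Y).symm.trans (by rw [h, map_zero])))
    exact (mem_subfieldSubgroup_iff _ _ _).2 ⟨hu.unit, 1, by simp [hY, cj_coe]⟩
  · have e : (g : M5).map σ = g := by ext i j; exact hσ _ (hg i j)
    rw [← mulVec_inv_mulVec Q x, ← mulVec_inv_mulVec Q y, k]
    simp only [coe_mul_mulVec, inv_mulVec_mulVec]
    rw [k, comp_mulVec_map, e, h1]

namespace MO

theorem rf_mem (h : MO F₀ b P X) (ha : ∀ i, a i ∈ F₀) (h0 : Bf b a a ≠ 0) :
    P * rf h0 * P⁻¹ ∈ X := by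
  refine h.el _ (fun i j => ?_) (fun v w => ?_) (AL.mem_specialLinear'.2 ?_)
  · refine sub_mem (mul_mem (div_mem (natCast_mem F₀ 2) (Bf_mem h.mem ha ha))
      (mul_mem (ha i) (mul_mem (h.mem j) (ha j)))) ?_
    rw [one_apply]
    split_ifs <;> simp
  · simp only [rf, rfM_mulVec, Bf_add_left, Bf_add_right, Bf_smul_left, Bf_smul_right,
      Bf_comm b v a]
    field_simp
    ring
  · have : rfM b a = -(1 + vecMulVec (-(2 / Bf b a a) • a) (b * a)) := by
      rw [rfM, smul_vecMulVec]; module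
    change (rfM b a).det = 1
    rw [this, det_neg, det_one_add_vecMulVec, dotProduct_smul, smul_eq_mul]
    change _ * (1 + _ * Bf b a a) = 1
    field_simp
    norm_num

theorem bf_single (h : MO F₀ b P X) (i : Fin 5) : Bf b (Pi.single i 1) (Pi.single i 1) ≠ 0 := by
  simpa [Bf] using h.ne i

theorem rfM_single (h : MO F₀ b P X) (i : Fin 5) :
    rfM b (Pi.single i 1) = (2 : F) • single i i 1 - 1 := by
  ext j k
  have := h.ne i
  simp only [rfM_apply, Bf, dotProduct_single, Pi.mul_apply, Pi.single_eq_same, mul_one,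
    Matrix.sub_apply, Matrix.smul_apply, smul_eq_mul, Pi.single_apply, single_apply, sub_left_inj]
  by_cases h1 : j = i
  · by_cases h2 : k = i
    · simp [h1, h2, this]
    · simp [h2, Ne.symm h2]
  · simp [h1, Ne.symm h1]

theorem not_noFour (h : MO F₀ b P X) : ¬ NoFour X := fun k => by
  have s := fun i : Fin 5 => h.rf_mem (single_rat F₀ i) (h.bf_single i)
  have m : ∀ i, rf (h.bf_single i) * rf (h.bf_single i) = 1 := fun i => Units.ext (rfM_mul (h.bf_single i))
  have := k _ (s 0) _ (s 1) (by simp [m]) (by simp [m]) (by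
    rw [conj_mul, conj_mul]
    congr 2
    ext1
    simp [rf, h.rfM_single, sub_mul, mul_sub]
    abel)
  simp only [conj_eq_one_iff, mul_left_inj, mul_right_inj, Units.ext_iff, rf, h.rfM_single] at this
  apply h.two
  rcases this with e | e | e
  · have := congrFun (congrFun e 1) 1
    simp at this
    linear_combination -this
  · have := congrFun (congrFun e 0) 0
    simp at this
    linear_combination -this
  · simpa using congrFun (congrFun e 0) 0

theorem single_mem (h : MO F₀ b P X) {L : Subfield F} (A : Subalgebra L M5)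
    (hA : ∀ g ∈ X, g * g = 1 → (g : M5) ∈ A) :
    (∀ a, (∀ i, a i ∈ F₀) → Bf b a a ≠ 0 → cj P (rfM b a) ∈ A) ∧ ∀ i, cj P (single i i 1) ∈ A := by
  have k : ∀ a, (∀ i, a i ∈ F₀) → Bf b a a ≠ 0 → cj P (rfM b a) ∈ A := fun a ha h0 =>
    (cj_coe P (rf h0)).symm ▸ hA _ (h.rf_mem ha h0) (by
      rw [conj_mul, conj_eq_one_iff]; exact Units.ext (rfM_mul h0))
  refine ⟨k, fun i => ?_⟩
  have := smul_mem_subalgebra A (inv_mem (natCast_mem L 2))
    (add_mem (k _ (single_rat F₀ i) (h.bf_single i)) A.one_mem)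
  rwa [h.rfM_single, map_sub, map_one, sub_add_cancel, map_smul, Nat.cast_ofNat,
    inv_smul_smul₀ h.two] at this

theorem mem_of_rat (h : MO F₀ b P X) (A : Subalgebra F₀ M5)
    (hA : ∀ g ∈ X, g * g = 1 → (g : M5) ∈ A) {Y : M5} (hY : Ratl F₀ P Y) : Y ∈ A := by
  obtain ⟨h1, h2⟩ := h.single_mem A hA
  have k : ∀ i j, cj P (single i j 1) ∈ A := fun i j => by
    by_cases hij : i = j
    · exact hij ▸ h2 i
    have k : ∀ a, (∀ i, a i ∈ F₀) → Bf b a a ≠ 0 → a i = 1 → a j = 1 → cj P (single i j 1) ∈ A :=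
      fun a ha h0 e1 e2 => by
        have := smul_mem_subalgebra A (inv_mem (mul_mem (div_mem (natCast_mem F₀ 2)
          (Bf_mem h.mem ha ha)) (h.mem j))) (mul_mem (mul_mem (h2 i) (h1 a ha h0)) (h2 j))
        rw [← map_mul, ← map_mul, single_mul_mul_single, ← map_smul] at this
        convert this using 2
        have := h.two
        have := h.ne j
        simp [rfM_apply, e1, e2, hij]
        field_simp
    have s := single_rat F₀
    by_cases e : b i + b j = 0
    · obtain ⟨l, h3, h4⟩ : ∃ l, l ≠ i ∧ l ≠ j := by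
        generalize i = i, j = j; revert i j; decide
      refine k (Pi.single i 1 + Pi.single j 1 + Pi.single l 1)
        (fun m => add_mem (add_mem (s _ _) (s _ _)) (s _ _)) ?_ (by simp [hij, h3.symm])
        (by simp [Ne.symm hij, h4.symm])
      simpa [Bf, hij, Ne.symm hij, h3, h4, h3.symm, h4.symm, e] using h.ne l
    · refine k (Pi.single i 1 + Pi.single j 1) (fun m => add_mem (s _ _) (s _ _)) ?_ (by simp [hij])
        (by simp [Ne.symm hij])
      simpa [Bf, hij, Ne.symm hij] using e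
  rw [← cj_cj_inv P Y, matrix_eq_sum_single (cj P⁻¹ Y), map_sum]
  refine sum_mem fun i _ => ?_
  rw [map_sum]
  refine sum_mem fun j _ => ?_
  simpa [← map_smul] using smul_mem_subalgebra A (hY i j) (k i j)

theorem irr (h : MO F₀ b P X) : Irr X := by
  refine irr_of_env_eq_top (eq_top_iff.2 fun Y _ => ?_)
  rw [← cj_cj_inv P Y, matrix_eq_sum_single (cj P⁻¹ Y), map_sum]
  refine sum_mem fun i _ => ?_
  rw [map_sum]
  refine sum_mem fun j _ => ?_
  simpa [← map_smul] using (env X).smul_mem (h.mem_of_rat ((env X).restrictScalars F₀)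
    (fun g hg _ => coe_mem_env hg) (ratl_iff.2 ⟨_, congrArg (cj P) (incl_single F₀ i j)⟩))
    (cj P⁻¹ Y i j)

/-- The matrices that are rational for a subfield structure. -/
def ratA (F₁ : Subfield F) (P₁ : G5) : Subalgebra F₁ M5 :=
  (((cj P₁).toAlgHom.restrictScalars F₁).comp (incl (Fin 5) F₁)).range

theorem mem_ratA {Y : M5} : Y ∈ ratA F₁ P₁ ↔ Ratl F₁ P₁ Y := ratl_iff.symm

theorem le_subfield (h : MO F₀ b P X) (h1 : X ≤ subfieldSubgroup F₁ P₁) (h2 : X ≤ SL5) :
    F₀ ≤ F₁ := by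
  obtain ⟨h3, h4⟩ := h.single_mem (ratA F₁ P₁) fun g hg e =>
    mem_ratA.2 (ratl_of_inv (h1 hg) (h2 hg) e)
  have h0 := h.ne 0
  have h5 := h.ne 1
  have h6 := h.two
  have k : ∀ x ∈ F₀, b 0 / b 1 * x ^ 2 ∈ F₁ := fun x hx => by
    by_cases e : b 0 * x ^ 2 + b 1 = 0
    · convert neg_mem F₁.one_mem using 1
      field_simp
      linear_combination e
    have e' : Bf b ![x, 1, 0, 0, 0] ![x, 1, 0, 0, 0] = b 0 * x ^ 2 + b 1 := by
      simp [Bf_eq, Fin.sum_univ_five]; ring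
    have := (mem_ratA.1 (mul_mem (h4 1) (h3 ![x, 1, 0, 0, 0]
      (fun i => by fin_cases i <;> simp [hx]) (e' ▸ e)))).trace_mem
    rw [← map_mul, trace_cj, trace_single_mul, rfM_apply, e'] at this
    convert sub_mem (div_mem (natCast_mem F₁ 2) (add_mem this F₁.one_mem)) F₁.one_mem using 1
    simp
    field_simp
    ring
  have k' : ∀ x ∈ F₀, x ^ 2 ∈ F₁ := fun x hx => by
    convert div_mem (k x hx) (k 1 F₀.one_mem) using 1
    field_simp
  intro x hx
  convert div_mem (sub_mem (sub_mem (k' _ (add_mem hx F₀.one_mem)) (k' x hx)) F₁.one_mem)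
    (natCast_mem F₁ 2) using 1
  simp only [Nat.cast_ofNat]
  field_simp
  ring

theorem le_of_le (h : MO F₀ b P X) (h1 : X ≤ subfieldSubgroup F₀ P₁) (h2 : X ≤ SL5) :
    X ≤ subfieldSubgroup F₀ P := by
  have k : ∀ Y, Ratl F₀ P Y → Y ∈ ratA F₀ P₁ := fun Y => h.mem_of_rat _ fun g hg e =>
    mem_ratA.2 (ratl_of_inv (h1 hg) (h2 hg) e)
  refine Nrm.le_subfieldSubgroup fun g hg Y hY i j => ?_
  have := (mem_ratA.1 (mul_mem (k _ (ratl_iff.2 ⟨_, congrArg (cj P) (incl_single F₀ j i)⟩))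
    (mem_ratA.2 (nrm_subfieldSubgroup F₀ P₁ g (h1 hg) Y (mem_ratA.1 (k Y hY)))))).trace_mem
  rwa [← cj_cj_inv P (cj g Y), ← map_mul, trace_cj, trace_single_mul, one_smul] at this

open Polynomial in
theorem exists_iso {k : Type*} [Field k] [Finite k] (ho : Odd (Nat.card k)) {a b : k} (ha : a ≠ 0)
    (hb : b ≠ 0) (c : k) : ∃ x y, a * x ^ 2 + (b * y ^ 2 + c) = 0 := by
  have := Fintype.ofFinite k
  obtain ⟨x, y, h⟩ := FiniteField.exists_root_sum_quadratic (f := C a * X ^ 2)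
    (g := C b * X ^ 2 + C c) (degree_C_mul_X_pow 2 ha) (by compute_degree!)
    (by rw [← Nat.card_eq_fintype_card]; exact Nat.odd_iff.1 ho)
  exact ⟨x, y, by simpa using h⟩

theorem exists_sub [Finite F] (h : MO F₀ b P X) (ho : Odd (Nat.card F₀)) :
    ∃ E ≤ X, cb E = Nat.card F₀ ^ 2 ∧ ∀ g ∈ E, g ^ Nat.card F = 1 := by
  have := Fintype.ofFinite F
  obtain ⟨x, y, hxy⟩ := exists_iso (k := F₀) ho (a := ⟨b 0, h.mem 0⟩) (b := ⟨b 1, h.mem 1⟩)
    (fun e => h.ne 0 (congrArg Subtype.val e)) (fun e => h.ne 1 (congrArg Subtype.val e))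
    ⟨b 2, h.mem 2⟩
  have hxy : b 0 * x ^ 2 + (b 1 * y ^ 2 + b 2) = 0 := by simpa using congrArg Subtype.val hxy
  let e : Fin 5 → F := ![x, y, 1, 0, 0]
  have he : Bf b e e = 0 := by simp [e, Bf_eq, Fin.sum_univ_five]; linear_combination hxy
  let u : F × F → Fin 5 → F := fun s => ![0, 0, 0, s.1, s.2]
  have hu : ∀ s, Bf b e (u s) = 0 := fun s => by simp [e, u, Bf_eq, Fin.sum_univ_five]
  let ρ : Multiplicative (F × F) →* G5 := MonoidHom.toHomUnits
    { toFun := fun s => sgM b e (u s.toAdd)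
      map_one' := by
        have : u 0 = 0 := by ext i; fin_cases i <;> rfl
        simp [sgM, this, Bf]
      map_mul' := fun s t => by
        rw [sgM_mul h.two he (hu _) (hu _)]
        congr 1
        ext i; fin_cases i <;> simp [u] }
  have hρ : ∀ s, ρ s ^ Nat.card F = 1 := fun s => by
    rw [← map_pow, show s ^ Nat.card F = 1 from Multiplicative.toAdd.injective (by
      ext <;> simp [nsmul_eq_mul]), map_one]
  have hinj : ∀ s, ρ s ∈ S5 → s = 1 := fun s hs => by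
    obtain ⟨c, hc⟩ := (mem_scalars_iff' _).1 hs
    have h1 := congrFun (congrFun hc 3) 2
    have h2 := congrFun (congrFun hc 4) 2
    simp [ρ, sgM_apply, u, e, h.ne] at h1 h2
    exact Multiplicative.toAdd.injective (Prod.ext h1 h2)
  let ι : Multiplicative (F₀ × F₀) →* Multiplicative (F × F) :=
    AddMonoidHom.toMultiplicative (F₀.subtype.prodMap F₀.subtype).toAddMonoidHom
  let τ := ((MulAut.conj P).toMonoidHom.comp ρ).comp ι
  have hτ : ∀ s, τ s ∈ S5 → s = 1 := fun s hs => by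
    have := congrArg Multiplicative.toAdd (hinj _ ((conj_mem_S P _).1 hs))
    exact Multiplicative.toAdd.injective (Prod.ext (Subtype.ext (congrArg Prod.fst this))
      (Subtype.ext (congrArg Prod.snd this)))
  refine ⟨τ.range, ?_, ?_, ?_⟩
  · rintro _ ⟨s, rfl⟩
    have hue : ∀ i, u (ι s).toAdd i ∈ F₀ := fun i => by fin_cases i <;> simp [u, ι]
    have he' : ∀ i, e i ∈ F₀ := fun i => by fin_cases i <;> simp [e]
    refine h.el (ρ (ι s)) (fun i j => ?_) (sgM_isom h.two he (hu _)) (AL.mem_specialLinear.2 ?_)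
    · refine sub_mem (sub_mem (add_mem ?_ (mul_mem (hue i) (mul_mem (h.mem j) (he' j))))
        (mul_mem (he' i) (mul_mem (h.mem j) (hue j)))) (mul_mem (div_mem (Bf_mem h.mem hue hue)
          (natCast_mem F₀ 2)) (mul_mem (he' i) (mul_mem (h.mem j) (he' j))))
      rw [one_apply]
      split_ifs <;> simp
    · have := congrArg GeneralLinearGroup.det (hρ (ι s))
      rwa [map_pow, map_one, Nat.card_eq_fintype_card, Units.ext_iff, Units.val_pow_eq_pow_val,
        FiniteField.pow_card, ← Units.ext_iff] at this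
  · rw [cb_eq_card (by rintro _ ⟨s, rfl⟩ hs; rw [hτ s hs, map_one]),
      ← Nat.card_congr (MonoidHom.ofInjective ((injective_iff_map_eq_one τ).2 fun s hs =>
        hτ s (hs ▸ one_mem _))).toEquiv, sq, ← Nat.card_prod]
    rfl
  · rintro _ ⟨s, rfl⟩
    change (P * ρ (ι s) * P⁻¹) ^ _ = 1
    rw [conj_pow, hρ, mul_one, mul_inv_cancel]

end MO

end Cfsg.Lib.Five.Mx
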