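import Cfsg.Agent.Class.Five.MxO
import Cfsg.Agent.Class.C6.BridgeGL
import Cfsg.Agent.S5793
import Cfsg.Agent.Gate.S5794

/-!
# The geometric maximal subgroups of `SL₅`
-/

set_option autoImplicit false

namespace Cfsg.Lib.Five.Mx

open Matrix Cfsg.Geo Cfsg.Lib.Class Cfsg.Lib.Class.Asch Cfsg.Agent
open scoped MatrixGroups commutatorElement

universe u

variable {F : Type u} [Field F] {X R : Subgroup (GL (Fin 5) F)}

local notation "G5" => GL (Fin 5) F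
local notation "M5" => Matrix (Fin 5) (Fin 5) F
local notation "S5" => scalars (Fin 5) F
local notation "SL5" => specialLinear (Fin 5) F
local notation "sc" => scalarGL (Fin 5)

theorem Hp.le_SL {ω : Fˣ} {x z : G5} (h : Hp R ω x z) : R ≤ SL5 := by
  have k : ∀ {x z : G5}, Hp R ω x z → z ∈ SL5 := fun {x z} h => by
    obtain ⟨g, e, -⟩ := h.exists_conj (R' := R) (x' := ee x z (1, 1)) (z' := ee x z (0, 1))
      ⟨h.cl, h.ne, h.ee_mem _, h.ee_mem _, by simpa [pw_one] using h.cm_ee (0, 1) (1, 1)⟩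
    simpa [ee, pw_one, AL.mem_specialLinear] using congrArg GeneralLinearGroup.det e
  have hx := k (x := ee x z (0, -1)) (z := ee x z (1, 0))
    ⟨h.cl, h.ne, h.ee_mem _, h.ee_mem _, by simpa [pw_one] using h.cm_ee (1, 0) (0, -1)⟩
  rw [ee_one_zero] at hx
  intro r hr
  obtain ⟨a, u, rfl⟩ := h.mem_iff.1 hr
  refine mul_mem ?_ (mul_mem (pow_mem hx _) (pow_mem (k h) _))
  rw [pw, map_pow]
  exact pow_mem (by simpa [AL.mem_specialLinear'] using congrArg Units.val h.cm.five) _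

theorem not_cb (h : cb X ∣ 1320 ∨ cb X ∣ 7920 ∨ cb X ∣ 51840) (hR : cb R = 25) : ¬ R ≤ X :=
  fun hle => by
    have := hR ▸ cb_dvd hle
    rcases h with h | h | h <;> exact absurd (this.trans h) (by decide)

theorem ar_mon {n c : ℕ} (h : 3 * n ^ 4 ∣ 5 * c) (hn : 2 ≤ n) :
    ¬ c ∣ 1320 ∧ (6 ∣ n → ¬ c ∣ 51840) := by
  have k : ∀ n < 18, 2 ≤ n → ¬ 3 * n ^ 4 ∣ 5 * 1320 ∧ (6 ∣ n → ¬ 3 * n ^ 4 ∣ 5 * 51840) := by decide
  have b : 3 * n ^ 4 ≤ 5 * 51840 → n < 18 := fun h => lt_of_pow_lt_pow_left₀ 4 (by omega) (by omega)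
  refine ⟨fun e => ?_, fun h6 e => ?_⟩
  · have := h.trans (mul_dvd_mul_left 5 e)
    exact (k n (b ((Nat.le_of_dvd (by omega) this).trans (by omega))) hn).1 this
  · have := h.trans (mul_dvd_mul_left 5 e)
    exact (k n (b (Nat.le_of_dvd (by omega) this)) hn).2 h6 this

theorem ar1 {m r : ℕ} (hr : 2 ≤ r) (h5 : 5 ≤ m ^ r) (h : m ^ r - 1 ≤ 2 * m) : False := by
  obtain ⟨r, rfl⟩ := Nat.exists_eq_add_of_le hr
  rcases Nat.lt_or_ge m 3 with hm | hm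
  · interval_cases m
    · simp [pow_add] at h5
    · simp at h5
    · rw [pow_add] at h h5; omega
  · have : 1 ≤ m ^ r := Nat.one_le_pow _ _ (by omega)
    rw [pow_add] at h
    have : m ^ 2 ≤ 2 * m + 1 := by have := Nat.mul_le_mul_left (m ^ 2) this; omega
    nlinarith

theorem not_prime_pow {q m r : ℕ} (hq : q.Prime) (h : q = m ^ r) (hr : r.Prime) : False :=
  hr.ne_one (h ▸ hq).eq_one_of_pow

variable [Fintype F]

theorem card_eq_fixed_sq {σ : F ≃+* F} (h : σ ≠ RingEquiv.refl F) (hσ : ∀ a, σ (σ a) = a) :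
    Fintype.card F = Nat.card (fixedSubfield σ) ^ 2 := by
  obtain ⟨q, hq, e⟩ := Form.exists_card_eq_sq (σ := (σ : F →+* F))
    (fun k => h (RingEquiv.ext fun a => RingHom.congr_fun k a)) hσ
  rw [show σ = frobqEquiv hq from RingEquiv.ext e, card_fixedSubfield, hq]

/-- `X` contains an element of large order of the field `K`. -/
structure MC (K : Subalgebra F M5) (s : G5) (X : Subgroup G5) : Prop where
  field : IsFieldSubalgebra 5 K
  mem : (s : M5) ∈ K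
  mem' : s ∈ X
  le : X ≤ SL5
  ord : ¬ orderOf s ∣ 14256000

namespace MC

variable {K K' : Subalgebra F (Matrix (Fin 5) (Fin 5) F)} {s : GL (Fin 5) F}

theorem ne_one (h : MC K s X) {n : ℕ} (hn : n ∣ 14256000) : s ^ n ≠ 1 := fun e =>
  h.ord ((orderOf_dvd_of_pow_eq_one e).trans hn)

theorem not_mem (h : MC K s X) {n : ℕ} (hn : n * 5 ∣ 14256000) : s ^ n ∉ S5 := fun e =>
  h.ne_one hn (pow_mul s n 5 ▸ pow_five_of_S e (pow_mem (h.le h.mem') n))

theorem irr (h : MC K s X) : Irr X :=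
  irr_of_field h.field (pow_mem_K h.mem 1) (h.not_mem (by decide)) (pow_mem h.mem' 1)

theorem not_pD (h : MC K s X) : ¬ PD X := fun ⟨_, _, _, h1, h2, _⟩ =>
  (h1 _ (h2 _ h.mem')).2.elim fun _ e =>
    h.not_mem (by decide) (mem_S_of_det h.field (pow_mem_K h.mem 120) e)

theorem le_nrm (h : MC K s X) (hK : IsFieldSubalgebra 5 K') (h1 : X ≤ subalgebraNormalizer K') :
    X ≤ subalgebraNormalizer K :=
  field_eq h.field hK (pow_mem_K h.mem 5) (five_mem hK (h1 h.mem')) (h.not_mem (by decide)) ▸ h1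

theorem not_le (h : MC K s X) (hR : Cl2 5 R) : ¬ X ≤ subgroupNormalizer R := fun h1 => by
  obtain ⟨ω, h2, h3, -⟩ := hR.exists_root
  obtain ⟨x, z, hp⟩ := exists_hp hR h2 h3
  exact h.ne_one (by decide) (hp.pow_1500 (h1 h.mem') (h.le h.mem'))

theorem not_cb (h : MC K s X) {n : ℕ} (hn : n * 5 ∣ 14256000) : ¬ cb X ∣ n := fun e =>
  h.ne_one hn (pow_eq_one_of_cb h.le h.mem' e)

theorem sub (h : MC K s X) {F₁ : Subfield F} {P : G5} (h1 : X ≤ subfieldSubgroup F₁ P) :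
    orderOf s ≤ 5 * Nat.card F₁ ^ 5 ∧ ((orderOf s).Coprime 5 → orderOf s ≤ Nat.card F₁ ^ 5) := by
  have := orderOf_le_of_ratl (ratl_pow_five (h1 h.mem') (h.le h.mem'))
  refine ⟨le_trans (orderOf_le_of_pow_eq_one (by have := orderOf_pos (s ^ 5); omega)
    ((pow_mul s 5 _).trans (pow_orderOf_eq_one _))) (by omega), fun e => e.orderOf_pow ▸ this⟩

theorem orth (h : MC K s X) {σ : F ≃+* F} {ε : F} {f : (Fin 5 → F) → (Fin 5 → F) → F}
    (hf : IsSesq σ ε f) (h1 : X ≤ similarityGroup f) (h2 : (2 : F) ≠ 0)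
    (h3 : σ (1 - ((s ^ 5 : G5) : M5)).det = (1 - ((s ^ 5 : G5) : M5)).det) : False :=
  h.ne_one (by decide) (one_of_det_eq h.field (pow_mem_K h.mem 5) (pow_mem (h.le h.mem') 5) h2
    ((det_sub_inv hf (isom_pow_five hf (h1 h.mem') (h.le h.mem'))).trans h3))

end MC

theorem kind_SL [Gate.S5794.{u}] (hX : IsMaximalIn SL5 X) :
    ¬ Irr X ∨ (PD X ∧ ∃ P, pl P X = Mon F ⊓ SL5) ∨
    (∃ K, IsFieldSubalgebra 5 K ∧ X ≤ subalgebraNormalizer K) ∨
    (∃ (F₁ : Subfield F) (r : ℕ) (P : G5), r.Prime ∧ Fintype.card F = Nat.card F₁ ^ r ∧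
      X ≤ subfieldSubgroup F₁ P) ∨
    (∃ R, Cl2 5 R ∧ X = subgroupNormalizer R ⊓ SL5) ∨
    ((2 : F) ≠ 0 ∧ ∃ f, IsSesq (RingEquiv.refl F) 1 f ∧ X ≤ similarityGroup f) ∨
    (∃ (σ : F ≃+* F) (f : _), σ ≠ RingEquiv.refl F ∧ IsSesq σ 1 f ∧ X ≤ similarityGroup f) ∨
    cb X ∣ 1320 ∨ (cb X ∣ 7920 ∧ Fintype.card F = 3) ∨
    (cb X ∣ 51840 ∧ Fintype.card F % 6 = 1) := by
  rcases S5793.result X hX with ⟨W, h0, h1, rfl⟩ | ⟨-, D, hD, rfl⟩ | ⟨K, hK, rfl⟩ |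
    ⟨F₁, r, P, hr, hc, rfl⟩ | ⟨-, R, hR, rfl⟩ | ⟨ho, Q, hQ, rfl⟩ | ⟨σ, f, hf, rfl⟩ | hS
  · exact .inl fun h => Irr.not_le h h0 h1 inf_le_left
  · obtain ⟨P, e⟩ := exists_pl_Mon hD
    exact .inr (.inl ⟨pD_of_pl (e ▸ pl_mono inf_le_left), P, by rw [pl_inf, e, pl_SL]⟩)
  · exact .inr (.inr (.inl ⟨K, hK, inf_le_left⟩))
  · exact .inr (.inr (.inr (.inl ⟨F₁, r, P, hr, hc, inf_le_left⟩)))
  · exact .inr (.inr (.inr (.inr (.inl
      ⟨R, C6.cl2_of_symplecticType (by simp) hR.symplecticType hR.absIrred, rfl⟩))))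
  · exact .inr (.inr (.inr (.inr (.inr (.inl ⟨two_ne_zero_of_odd_card ho, _, isSesq_polar hQ,
      inf_le_left.trans (AL.quadSimilarityGroup_le Q)⟩)))))
  · exact .inr (.inr (.inr (.inr (.inr (.inr (.inl
      ⟨σ, f, hf.ne_refl, isSesq_of_isUnitaryForm hf, inf_le_left⟩))))))
  refine .inr (.inr (.inr (.inr (.inr (.inr (.inr ?_))))))
  obtain ⟨P, p, hP, -, hp, ⟨⟨e⟩, -⟩ | ⟨⟨e⟩, h⟩ | ⟨⟨K, _, _, hK, ⟨e⟩⟩, h⟩⟩ := Gate.S5794.out X hX hS
  · exact .inl (aut_l211 ▸ cb_dvd_aut hP e)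
  · exact .inr (.inl ⟨(cb_dvd_aut hP e).trans aut_m11, hp.trans h⟩)
  · exact .inr (.inr ⟨aut_u42 hK ▸ cb_dvd_aut hP e, hp ▸ h⟩)

variable [Gate.S5794.{u}]

theorem max_dec (h5 : 5 ≤ Fintype.card F) {D : Fin 5 → Submodule F (Fin 5 → F)}
    (hD : IsMDecomposition 1 D) : IsMaximalIn SL5 (decompositionStabilizer D ⊓ SL5) := by
  obtain ⟨P, hP⟩ := exists_pl_Mon hD
  refine isMaximalIn_of_pl P (pl_SL P) hP (AL.not_SL_le_decomposition (by simp) hD)
    fun X hX hle => ?_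
  have m : MB ⊤ X := ⟨fun a _ h => hle ⟨dg_mem_Mon a, dg_mem_SL h⟩,
    fun s h => hle ⟨pm_mem_Mon s, pm_mem_SL h⟩⟩
  obtain ⟨x, h0, hx⟩ := AL.exists_sq_ne_one (F := F) (by omega)
  have hc : Nat.card (⊤ : Subgroup Fˣ) = Fintype.card F - 1 := by
    rw [Subgroup.card_top, Nat.card_units, Nat.card_eq_fintype_card]
  have hd := ar_mon (hc ▸ m.dvd hX.1.le) (by omega)
  rcases kind_SL hX with h | ⟨-, Q, h⟩ | ⟨K, hK, h⟩ | ⟨F₁, r, Q, hr, e, h⟩ | ⟨R, hR, h⟩ |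
    ⟨-, f, hf, h⟩ | ⟨σ, f, hσ, hf, h⟩ | h | h | h
  · exact absurd (m.irr (x := Units.mk0 x h0) trivial hx) h
  · exact le_of_pl h hle
  · exact absurd (noInv_field hK h hX.1.le).noFour m.not_noFour
  · refine (ar1 hr.two_le (e ▸ h5) (e ▸ hc ▸ card_le_two_mul fun y hy => ?_)).elim
    simpa using sub_mem (m.tr1 (pT_subfield h) hy).1 (natCast_mem F₁ 3)
  · obtain ⟨ω, h2, h3, -⟩ := hR.exists_root
    obtain ⟨x, z, hp⟩ := exists_hp hR h2 h3
    exact absurd (hp.noFour (h ▸ inf_le_left) hX.1.le) m.not_noFour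
  · exact absurd (m.tr2 (pT_sim hf h) (fun _ _ e => e.symm) (x := Units.mk0 x h0) trivial) hx
  · have e := card_eq_fixed_sq hσ hf.invol
    refine (ar1 le_rfl (e ▸ h5) (e ▸ hc ▸ card_le_two_mul fun y hy => ?_)).elim
    have := m.tr1 (pT_sim hf h) hy
    rw [map_add σ _ 3, map_ofNat, add_left_inj] at this
    exact this.symm
  · exact absurd h hd.1
  · omega
  · exact absurd h.1 (hd.2 (by omega))

theorem max_field {K : Subalgebra F M5} (hK : IsFieldSubalgebra 5 K) :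
    IsMaximalIn SL5 (subalgebraNormalizer K ⊓ SL5) := by
  refine Mit.Mx.isMaximalIn_of (AL.not_SL_le_field (by simp) (by norm_num) hK) fun X hX hle => ?_
  obtain ⟨s, h1, h2, ho⟩ := exists_singer hK dvd_rfl
  have hq : 2 ≤ Fintype.card F := Fintype.one_lt_card
  have m : MC K s X := ⟨hK, h1, hle ⟨mem_nrm_of_mem hK h1, h2⟩, hX.1.le, fun h => by
    have k : ∀ q < 62, 2 ≤ q → ¬ q ^ 4 + q ^ 3 + q ^ 2 + q + 1 ∣ 14256000 := by decide +kernel
    rw [ho] at h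
    have := Nat.le_of_dvd (by omega) h
    exact k _ (lt_of_pow_lt_pow_left₀ 4 (by omega) (by omega)) hq h⟩
  have ar : ∀ m r : ℕ, 2 ≤ m → 2 ≤ r → Fintype.card F = m ^ r → 5 * (m ^ 5 + 1) < orderOf s :=
    fun m r hm hr e => by
      have h3 : (m ^ 2) ^ 4 ≤ Fintype.card F ^ 4 :=
        Nat.pow_le_pow_left (e ▸ Nat.pow_le_pow_right (by omega) hr) 4
      have h4 : 2 ^ 3 * m ^ 5 ≤ m ^ 3 * m ^ 5 := Nat.mul_le_mul_right _ (Nat.pow_le_pow_left hm 3)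
      have h5 : 2 ^ 5 ≤ m ^ 5 := Nat.pow_le_pow_left hm 5
      rw [← pow_mul, show 2 * 4 = 3 + 5 from rfl, pow_add] at h3
      omega
  rcases kind_SL hX with h | ⟨h, -⟩ | ⟨K', hK', h⟩ | ⟨F₁, r, Q, hr, e, h⟩ | ⟨R, hR, h⟩ |
    ⟨h3, f, hf, h⟩ | ⟨σ, f, hσ, hf, h⟩ | h | h | h
  · exact absurd m.irr h
  · exact absurd h m.not_pD
  · exact m.le_nrm hK' h
  · have := ar _ r Finite.one_lt_card hr.two_le e
    have := (m.sub h).1
    omega
  · exact absurd (h ▸ inf_le_left) (m.not_le hR)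
  · exact (m.orth hf h h3 rfl).elim
  · have e := card_eq_fixed_sq hσ hf.invol
    have := pow_eq_one_of_isom hK hf hσ e (pow_mem_K h1 5) (m.not_mem (by decide))
      (isom_pow_five hf (h m.mem') h2)
    exact absurd (orderOf_le_of_pow_eq_one (by omega) ((pow_mul s 5 _).trans this))
      (ar _ 2 Finite.one_lt_card le_rfl e).not_ge
  · exact absurd h (m.not_cb (by decide))
  · exact absurd h.1 (m.not_cb (by decide))
  · exact absurd h.1 (m.not_cb (by decide))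

theorem max_ext (hp : (Fintype.card F).Prime) (h4 : 4 ≤ Fintype.card F) (hR : Cl2 5 R) :
    IsMaximalIn SL5 (subgroupNormalizer R ⊓ SL5) := by
  refine Mit.Mx.isMaximalIn_of (AL.not_SL_le_normalizer (by simp) h4 hR) fun X hX hle => ?_
  obtain ⟨ω, h2, h3, -⟩ := hR.exists_root
  obtain ⟨x, z, m⟩ := exists_hp hR h2 h3
  have hRX : R ≤ X := (le_inf Subgroup.le_normalizer m.le_SL).trans hle
  obtain ⟨g, hg, k⟩ := m.exists_elt
  have k := k X hX.1.le hRX (hle ⟨mul_mem (Subgroup.center_le_normalizer _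
    (scalars_le_center (scalarGL_mem _))) (pow_mem hg 5), scale_mem_SL g⟩)
  rcases kind_SL hX with h | ⟨h, -⟩ | ⟨K', hK', h⟩ | ⟨F₁, r, Q, hr, e, h⟩ | ⟨R', hR', h⟩ |
    ⟨-, f, hf, h⟩ | ⟨σ, f, hσ, hf, h⟩ | h
  · exact absurd ((irr_of_env_eq_top hR.env_top).mono hRX) h
  · exact absurd h k.1
  · exact absurd (noInv_field hK' h hX.1.le) k.2
  · exact (not_prime_pow hp e hr).elim
  · obtain ⟨x', z', m'⟩ := exists_hp hR' h2 h3
    obtain ⟨P, -, -, e⟩ := m.exists_conj m'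
    exact le_of_pl (P := P) (by rw [h, pl_inf, Hp.pl_normalizer e, pl_SL]) hle
  · exact absurd (hR.eq_two_of_bilinear hf (hRX.trans h)) (by decide)
  · exact (not_prime_pow hp (card_eq_fixed_sq hσ hf.invol) Nat.prime_two).elim
  · exact absurd hRX (not_cb (h.imp_right (Or.imp And.left And.left)) (cb_cl hR))

end Cfsg.Lib.Five.Mx
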