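import Cfsg.Agent.Class.Five.MxSL
import Cfsg.Agent.Known.GUClasses
import Cfsg.Agent.S5796
import Cfsg.Agent.Gate.S5797

/-!
# The geometric maximal subgroups of `SU₅`
-/

set_option autoImplicit false

namespace Cfsg.Lib.Five.Mx

open Matrix Cfsg.Geo Cfsg.Lib.Class Cfsg.Lib.Class.Asch Cfsg.Agent
open scoped MatrixGroups commutatorElement

universe u

theorem exists_root {q m r : ℕ} (h : q ^ 2 = m ^ r) (ho : Odd r) : ∃ k, q = k ^ r ∧ m = k ^ 2 :=
  Nat.exists_eq_pow_of_exponent_coprime_of_pow_eq_pow (Nat.coprime_two_left.2 ho) h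

theorem exists_root' {q m r : ℕ} (h : q ^ 2 = m ^ r) (hr : r.Prime) (ho : Odd r) (hm : 2 ≤ m) :
    ∃ k t, 2 ≤ k ∧ m = k ^ 2 ∧ q = k ^ (t + 3) := by
  obtain ⟨k, rfl, rfl⟩ := exists_root h ho
  obtain ⟨t, rfl⟩ := Nat.exists_eq_add_of_le' ((hr.odd_iff).1 ho)
  exact ⟨k, t, by nlinarith, rfl, rfl⟩

theorem ar_field {k t n : ℕ} (hk : 2 ≤ k) (e : n + 3 = k ^ (t + 3)) (h : n ≠ 5) :
    5 * (k ^ 2) ^ 5 < n ^ 4 + 11 * n ^ 3 + 46 * n ^ 2 + 86 * n + 61 := by
  have h1 : k ^ 3 ≤ n + 3 := e ▸ Nat.pow_le_pow_right (by omega) (by omega)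
  have h2 : 5 * k ≤ n + 2 := by
    rcases hk.eq_or_lt with rfl | hk
    · rcases t with _ | t
      · omega
      · have := Nat.pow_le_pow_right (n := 2) (by omega) (show 4 ≤ t + 1 + 3 by omega)
        omega
    · have : 3 ^ 2 * k ≤ k ^ 3 := Nat.mul_le_mul_right k (Nat.pow_le_pow_left hk 2)
      omega
  have := Nat.mul_le_mul (Nat.pow_le_pow_left h1 3) h2
  nlinarith [Nat.zero_le (n ^ 2)]

variable {F : Type u} [Field F] [Fintype F] {q : ℕ} {X R R' : Subgroup (GL (Fin 5) F)}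
  {F₀ F₁ : Subfield F} {P : GL (Fin 5) F}

local notation "G5" => GL (Fin 5) F
local notation "M5" => Matrix (Fin 5) (Fin 5) F
local notation "SU5" => TvP.SUG 5 F q
local notation "f5" => hermForm 5 F q

theorem sesq (hF : Fintype.card F = q ^ 2) : IsSesq (frobqEquiv hF) 1 f5 :=
  isSesq_of_isUnitaryFormPow hF (isUnitaryFormPow_hermForm hF 5)

theorem two_le (hF : Fintype.card F = q ^ 2) : 2 ≤ q := by
  have := hF ▸ Fintype.one_lt_card (α := F)
  nlinarith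

theorem pl_SU (h : P ∈ similarityGroup f5) : pl P SU5 = SU5 := pl_of_nrmG (TvP.nrmG_SUG le_rfl) h

theorem exists_pl_SU (hF : Fintype.card F = q ^ 2) {D : Fin 5 → Submodule F (Fin 5 → F)}
    (hD : IsNondegenerateMDecomposition f5 1 D) :
    ∃ P : G5, pl P SU5 = SU5 ∧ pl P (decompositionStabilizer D) = Mon F := by
  have := two_le hF
  obtain ⟨P, h, e⟩ := exists_pl_on (sesq hF) (frobqEquiv_ne_refl hF) (fun i j => by
    simp [hermForm, Pi.single_apply, show q ≠ 0 by omega, eq_comm]) hD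
  exact ⟨P, pl_SU (isoms_le_similarityGroup _ h), e⟩

theorem pT_eq (hF : Fintype.card F = q ^ 2) (e : Fintype.card F = Nat.card F₁ ^ 2)
    (h : X ≤ subfieldSubgroup F₁ P) (hX : X ≤ SU5) : PT X Eq := fun a ha b hb =>
  (fixed_of_card_sq hF e (pT_subfield h a ha b hb).1).symm.trans (pT_sim (sesq hF)
    (hX.trans (inf_le_left.trans (isoms_le_similarityGroup _))) a ha b hb).symm

variable [Gate.S5797.{u}]

theorem kind_SU (hF : Fintype.card F = q ^ 2) (hX : IsMaximalIn SU5 X) :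
    ¬ Irr X ∨ (PD X ∧ ∃ P, pl P X = Mon F ⊓ SU5) ∨
    (∃ K, IsFieldSubalgebra 5 K ∧ X ≤ subalgebraNormalizer K) ∨
    (∃ (F₁ : Subfield F) (r : ℕ) (P : G5), r.Prime ∧ Odd r ∧ Fintype.card F = Nat.card F₁ ^ r ∧
      X ≤ subfieldSubgroup F₁ P) ∨
    (Odd q ∧ ∃ (F₁ : Subfield F) (P : G5), Fintype.card F = Nat.card F₁ ^ 2 ∧
      X ≤ subfieldSubgroup F₁ P) ∨
    (∃ R, Cl2 5 R ∧ R ≤ isoms f5 ∧ X = subgroupNormalizer R ⊓ SU5) ∨
    cb X ∣ 1320 ∨ (cb X ∣ 51840 ∧ q % 6 = 5) := by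
  rcases S5796.result q hF X hX with ⟨W, h0, h1, rfl⟩ | ⟨W, h0, -, h1, rfl⟩ | ⟨D, hD, rfl⟩ |
    ⟨-, K, hK, -, rfl⟩ | ⟨F₁, r, P, hr, ho, hc, -, rfl⟩ | ⟨ho, F₁, P, hc, -, rfl⟩ |
    ⟨p, R, -, -, -, h1, h2, h3, -, -, rfl⟩ | hS
  · exact .inl fun h => Irr.not_le h h0 (TvP.ne_top_of_isTotallySingularFor hF h0 h1) inf_le_left
  · exact .inl fun h => Irr.not_le h h0 (by rintro rfl; simp at h1) inf_le_left
  · obtain ⟨P, e', e⟩ := exists_pl_SU hF hD
    exact .inr (.inl ⟨pD_of_pl (e ▸ pl_mono inf_le_left), P, by rw [pl_inf, e, e']⟩)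
  · exact .inr (.inr (.inl ⟨K, hK, inf_le_left⟩))
  · exact .inr (.inr (.inr (.inl ⟨F₁, r, P, hr, ho, hc, inf_le_left⟩)))
  · exact .inr (.inr (.inr (.inr (.inl ⟨ho, F₁, P, hc, inf_le_left⟩))))
  · have hR := C6.cl2_of_symplecticType (by simp) h1 h2
    exact .inr (.inr (.inr (.inr (.inr (.inl
      ⟨R, hR, hR.le_isoms_of_odd (by decide) (sesq hF) h3, rfl⟩)))))
  refine .inr (.inr (.inr (.inr (.inr (.inr ?_)))))
  obtain ⟨P, hP, -, ⟨⟨e⟩, -⟩ | ⟨⟨K, _, _, hK, ⟨e⟩⟩, h⟩⟩ := Gate.S5797.out q hF X hX hS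
  · exact .inl (aut_l211 ▸ cb_dvd_aut hP e)
  · exact .inr ⟨aut_u42 hK ▸ cb_dvd_aut hP e, h⟩

theorem max_frame (hF : Fintype.card F = q ^ 2) {D : Fin 5 → Submodule F (Fin 5 → F)}
    (hD : IsNondegenerateMDecomposition f5 1 D) :
    IsMaximalIn SU5 (decompositionStabilizer D ⊓ SU5) := by
  obtain ⟨P, hP', hP⟩ := exists_pl_SU hF hD
  refine isMaximalIn_of_pl P hP' hP (TvP.not_SUG_le_decompositionStabilizer hF (by simp) (by simp) hD)
    fun X hX hle => ?_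
  have hS := hX.1.le.trans inf_le_right
  have m : MB (Known.normOne F q) X := by
    refine ⟨fun a ha h => hle ⟨dg_mem_Mon a, fun u v => ?_, dg_mem_SL h⟩,
      fun s h => hle ⟨pm_mem_Mon s, fun u v => ?_, pm_mem_SL h⟩⟩
    · change f5 ((dg a).1 *ᵥ u) ((dg a).1 *ᵥ v) = _
      refine Finset.sum_congr rfl fun i _ => ?_
      rw [coe_dg, mulVec_diagonal, mulVec_diagonal, mul_pow]
      linear_combination u i * v i ^ q * Known.mem_normOne.1 (ha i)
    · change f5 ((pm s).1 *ᵥ u) ((pm s).1 *ᵥ v) = _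
      rw [pm_mulVec, pm_mulVec]
      exact Equiv.sum_comp s.symm fun i => u i * v i ^ q
  have hc := Known.card_normOne hF
  have hq := two_le hF
  obtain ⟨x, hx, hx'⟩ : ∃ x ∈ Known.normOne F q, (x : F) ^ 2 ≠ 1 := by
    by_contra! h
    have := Nat.le_of_dvd two_pos (IsCyclic.exponent_eq_card (α := Known.normOne F q) ▸
      Monoid.exponent_dvd_of_forall_pow_eq_one fun g => Subtype.ext (Units.ext (h g.1 g.2)))
    omega
  have hd := ar_mon (hc ▸ m.dvd hS) (by omega)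
  rcases kind_SU hF hX with h | ⟨-, Q, h⟩ | ⟨K, hK, h⟩ | ⟨F₁, r, Q, hr, ho, e, h⟩ |
    ⟨-, F₁, Q, e, h⟩ | ⟨R, hR, -, h⟩ | h | h
  · exact absurd (m.irr hx hx') h
  · exact le_of_pl h hle
  · exact absurd (noInv_field hK h hS).noFour m.not_noFour
  · have := hc ▸ card_le_two_mul (F₀ := F₁) fun y hy => by
      simpa using sub_mem (m.tr1 (pT_subfield h) hy).1 (natCast_mem F₁ 3)
    obtain ⟨k, t, h1, h2, h3⟩ := exists_root' (hF ▸ e) hr ho Finite.one_lt_card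
    have h4 := Nat.mul_le_mul_left (k ^ 2) h1
    have h5 := Nat.pow_le_pow_right (n := k) (by omega) (show 2 + 1 ≤ t + 3 by omega)
    rw [pow_succ] at h5
    omega
  · exact absurd (m.tr2 (pT_eq hF e h hX.1.le) (fun _ _ e => e) hx) hx'
  · obtain ⟨ω, h2, h3, -⟩ := hR.exists_root
    obtain ⟨x, z, hp⟩ := exists_hp hR h2 h3
    exact absurd (hp.noFour (h ▸ inf_le_left) hS) m.not_noFour
  · exact absurd h hd.1
  · exact absurd h.1 (hd.2 (by omega))

theorem max_fieldU (hF : Fintype.card F = q ^ 2) (h3 : 3 ≤ q) {K : Subalgebra F M5}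
    (hK : IsFieldSubalgebra 5 K) (hK' : IsAdjointClosedFor f5 K) :
    IsMaximalIn SU5 (subalgebraNormalizer K ⊓ SU5) := by
  refine Mit.Mx.isMaximalIn_of ((TvP.tvIrr_SUG hF (by simp)).not_le_subalgebraNormalizer (by simp) hK
    (by simp)) fun X hX hle => ?_
  obtain ⟨n, rfl⟩ := Nat.exists_eq_add_of_le' h3
  obtain ⟨s, h1, h2, ho⟩ := exists_singer hK (N := n ^ 4 + 11 * n ^ 3 + 46 * n ^ 2 + 86 * n + 61)
    ⟨(n + 3) ^ 4 + (n + 3) ^ 3 + (n + 3) ^ 2 + (n + 3) + 1, by rw [hF]; ring⟩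
  have hs := mem_GU_of_pow hF hK hK' h1
    (orderOf_dvd_iff_pow_eq_one.1 ⟨n + 4, by rw [ho]; ring⟩)
  have m : MC K s X := ⟨hK, h1, hle ⟨mem_nrm_of_mem hK h1, hs, h2⟩, hX.1.le.trans inf_le_right,
    fun h => by
      have k : ∀ n < 62, ¬ n ^ 4 + 11 * n ^ 3 + 46 * n ^ 2 + 86 * n + 61 ∣ 14256000 := by
        decide +kernel
      rw [ho] at h
      have := Nat.le_of_dvd (by omega) h
      exact k _ (lt_of_pow_lt_pow_left₀ 4 (by omega) (by omega)) h⟩
  rcases kind_SU hF hX with h | ⟨h, -⟩ | ⟨K', hK', h⟩ | ⟨F₁, r, Q, hr, hr', e, h⟩ |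
    ⟨hq, F₁, Q, e, h⟩ | ⟨R, hR, -, h⟩ | h | h
  · exact absurd m.irr h
  · exact absurd h m.not_pD
  · exact m.le_nrm hK' h
  · obtain ⟨k, t, h4, h5, h6⟩ := exists_root' (hF ▸ e) hr hr' Finite.one_lt_card
    have := m.sub h
    rw [ho, h5] at this
    rcases eq_or_ne n 5 with rfl | hn
    · have h7 := Nat.pow_le_pow_right (n := k) (by omega) (show 3 ≤ t + 3 by omega)
      obtain rfl : k = 2 := le_antisymm (Nat.le_of_lt_succ
        (lt_of_pow_lt_pow_left₀ (b := 3) 3 (by omega) (by omega))) h4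
      exact absurd (this.2 (by decide)) (by decide)
    · exact absurd this.1 (ar_field h4 h6 hn).not_ge
  · exact (m.orth (sesq hF) (hX.1.le.trans (inf_le_left.trans (isoms_le_similarityGroup _)))
      (two_ne_zero_of_odd_card (hF ▸ hq.pow)) (fixed_of_card_sq hF e (det_mem_of_ratl
        (MO.mem_ratA.1 (sub_mem (one_mem _) (MO.mem_ratA.2 (ratl_pow_five (h m.mem') h2))))))).elim
  · exact absurd (h ▸ inf_le_left) (m.not_le hR)
  · exact absurd h (m.not_cb (by decide))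
  · exact absurd h.1 (m.not_cb (by decide))

theorem max_orth (hF : Fintype.card F = q ^ 2) (ho : Odd q) (hc : Fintype.card F = Nat.card F₀ ^ 2)
    (hP : IsFormRationalStructure f5 F₀ 1 P) : IsMaximalIn SU5 (subfieldSubgroup F₀ P ⊓ SU5) := by
  obtain ⟨b, Q, e, m⟩ := exists_mO (sesq hF) (fun x hx => fixed_of_card_sq hF hc hx)
    (two_ne_zero_of_odd_card (hF ▸ ho.pow)) hP
  rw [← e]
  refine Mit.Mx.isMaximalIn_of (TvP.not_SUG_le_subfieldSubgroup hF (by simp)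
    (AL.subfield_ne_top le_rfl hc) Q) fun X hX hle => ?_
  have hS := hX.1.le.trans inf_le_right
  replace m : MO F₀ b Q X := ⟨m.two, m.mem, m.ne, fun g a b c => hle (m.el g a b c)⟩
  have hq : Nat.card F₀ = q := Nat.pow_left_injective two_ne_zero (hc.symm.trans hF)
  obtain ⟨E, hE, h1, h2⟩ := m.exists_sub (hq ▸ ho)
  have ar : ∀ n, cb E ∣ n → n ∣ 1320 ∨ (n ∣ 51840 ∧ q % 6 = 5) → False := fun n hn h => by
    have k : ∀ q < 228, Odd q → 2 ≤ q → ¬ q ^ 2 ∣ 1320 ∧ (q % 6 = 5 → ¬ q ^ 2 ∣ 51840) := by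
      decide +kernel
    rw [h1, hq] at hn
    have b : q ^ 2 ≤ 51840 → q < 228 := fun h => lt_of_pow_lt_pow_left₀ 2 (by omega) (by omega)
    rcases h with h | ⟨h, h'⟩
    · exact (k q (b ((Nat.le_of_dvd (by omega) (hn.trans h)).trans (by omega))) ho (two_le hF)).1
        (hn.trans h)
    · exact (k q (b (Nat.le_of_dvd (by omega) (hn.trans h))) ho (two_le hF)).2 h' (hn.trans h)
  have k : ∀ (F₁ : Subfield F) (r : ℕ) (P : G5), 2 ≤ r → Fintype.card F = Nat.card F₁ ^ r →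
      X ≤ subfieldSubgroup F₁ P → X ≤ subfieldSubgroup F₀ Q := fun F₁ r P hr e h =>
    m.le_of_le (subfield_eq_of_prime Nat.prime_two (Nat.card_eq_fintype_card.trans hc)
      (m.le_subfield h hS) (AL.subfield_ne_top hr e) ▸ h) hS
  rcases kind_SU hF hX with h | ⟨⟨T, -, -, h3, -, h⟩, -⟩ | ⟨K, hK, h⟩ | ⟨F₁, r, Q, hr, -, e, h⟩ |
    ⟨-, F₁, Q, e, h⟩ | ⟨R, hR, -, h⟩ | h
  · exact absurd m.irr h
  · refine (ar _ (h E hE fun g hg hT => ?_) (.inl (by decide))).elim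
    have := h2 g hg
    rw [← Nat.sub_add_cancel (Nat.card_pos (α := F)), pow_succ, (h3 g hT).1, one_mul] at this
    exact this ▸ one_mem _
  · exact absurd (noInv_field hK h hS).noFour m.not_noFour
  · exact k _ _ _ hr.two_le e h
  · exact k _ _ _ le_rfl e h
  · obtain ⟨ω, h2, h3, -⟩ := hR.exists_root
    obtain ⟨x, z, hp⟩ := exists_hp hR h2 h3
    exact absurd (hp.noFour (h ▸ inf_le_left) hS) m.not_noFour
  · exact (ar _ (cb_dvd hE) h).elim

theorem max_extU (hF : Fintype.card F = q ^ 2) {p : ℕ} (hp : p.Prime) (hq : q = p ∨ q = p ^ 2)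
    (hR : Cl2 5 R) (hRf : R ≤ similarityGroup f5) :
    IsMaximalIn SU5 (subgroupNormalizer R ⊓ SU5) := by
  refine Mit.Mx.isMaximalIn_of (TvP.not_SUG_le_subgroupNormalizer hF (by simp) (by simp) hR hRf)
    fun X hX hle => ?_
  have hS := hX.1.le.trans inf_le_right
  have hf := sesq hF
  have hRi := hR.le_isoms_of_odd (by decide) hf hRf
  obtain ⟨ω, h2, h3, -⟩ := hR.exists_root
  obtain ⟨x, z, m⟩ := exists_hp hR h2 h3
  have hRX : R ≤ X := (le_inf Subgroup.le_normalizer (le_inf hRi m.le_SL)).trans hle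
  obtain ⟨g, hg, k⟩ := m.exists_elt
  have k := k X hS hRX (hle ⟨mul_mem (Subgroup.center_le_normalizer _
    (scalars_le_center (scalarGL_mem _))) (pow_mem hg 5), scale_mem_isoms hf
      (hf.le_similarityGroup hR.env_top hRi (nrmG_of_le_normalizer le_rfl) hg), scale_mem_SL g⟩)
  rcases kind_SU hF hX with h | ⟨h, -⟩ | ⟨K', hK', h⟩ | ⟨F₁, r, Q, hr, ho, e, h⟩ |
    ⟨-, F₁, Q, e, h⟩ | ⟨R', hR', hR'', h⟩ | h
  · exact absurd ((irr_of_env_eq_top hR.env_top).mono hRX) h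
  · exact absurd h k.1
  · exact absurd (noInv_field hK' h hS) k.2
  · obtain ⟨k, e, -⟩ := exists_root (hF ▸ e) ho
    rcases hq with rfl | rfl
    · exact (not_prime_pow hp e hr).elim
    · obtain ⟨k, e, -⟩ := exists_root e ho
      exact (not_prime_pow hp e hr).elim
  · have := pT_eq hF e h hX.1.le _ (hRX m.mz) _ (hRX m.mx)
    rw [show ⁅z, x⁆ = scalarGL (Fin 5) ω by rw [commutatorElement_def, m.cm]; group, ← map_inv] at this
    simp only [coe_scalarGL, trace_smul, trace_one, smul_eq_mul] at this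
    have h4 := eq_inv_iff_mul_eq_one.1 (Units.ext (mul_right_cancel₀ hR.natCast_card_ne_zero this))
    exact absurd (by simpa [pow_succ, h4] using h3) h2
  · obtain ⟨x', z', m'⟩ := exists_hp hR' h2 h3
    obtain ⟨P, -, -, e⟩ := m.exists_conj m'
    exact le_of_pl (P := P) (by
      rw [h, pl_inf, Hp.pl_normalizer e, pl_SU (sim_of_pl hf hR.env_top hRi hR'' e)]) hle
  · exact absurd hRX (not_cb (h.imp_right fun h => .inr h.1) (cb_cl hR))

end Cfsg.Lib.Five.Mx
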