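import Cfsg.Agent.Class.Five.RB3a

/-!
# The `B₃` frame in dimension three
-/

set_option autoImplicit false

namespace Cfsg.Lib.Five

open Matrix Cfsg.Geo Cfsg.Lib.Class Cfsg.Lib.Class.Asch Cfsg.Lib.Mit
open scoped MatrixGroups

universe u

variable {F : Type*} [Field F] {X : Subgroup (GL (Fin 3) F)} {μ : F}

/-- The standard frame. -/
abbrev sB (F : Type*) [Field F] : Fin 3 → Fin 3 → F := fun i => Pi.single i 1

theorem cb_sB (d : Fin 3 → F) : cb d (sB F) = d := by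
  ext i; fin_cases i <;> simp [cb, Fin.sum_univ_three]

theorem Rt.mat {a φ : Fin 3 → F} (h : Rt X a φ) {M : Matrix (Fin 3) (Fin 3) F}
    (e : vecMulVec a φ - 1 = M) : ∃ g ∈ X, (g : Matrix (Fin 3) (Fin 3) F) = M :=
  ⟨_, h.2, (tR_coe h.1).trans e⟩

theorem trace_tR {a φ b ψ c χ : Fin 3 → F} (ha : φ ⬝ᵥ a = 2) (hb : ψ ⬝ᵥ b = 2) (hc : χ ⬝ᵥ c = 2) :
    ((tR a φ * tR b ψ * tR c χ : GL (Fin 3) F) : Matrix (Fin 3) (Fin 3) F).trace =
      yy a φ b ψ c χ - xx a φ b ψ - xx a φ c χ - xx b ψ c χ + 3 := by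
  simp only [Units.val_mul, tR_coe ha, tR_coe hb, tR_coe hc, Matrix.sub_mul, Matrix.mul_sub,
    vecMulVec_mul_vecMulVec, Matrix.mul_one, Matrix.one_mul, trace_sub, trace_vecMulVec, trace_one,
    smul_dotProduct, smul_eq_mul, yy, xx, dotProduct_comm a, dotProduct_comm b,
    dotProduct_comm c, ha, hb, hc, Fintype.card_fin]
  push_cast
  ring

theorem Real3.sym (h : Real3 X) : Sym3 X := fun a φ b ψ c χ ha hb hc => by
  have := h _ (mul_mem (mul_mem ha.2 hc.2) hb.2)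
  rw [_root_.mul_inv_rev, _root_.mul_inv_rev, tR_inv, tR_inv, tR_inv, ← mul_assoc, trace_tR hb.1 hc.1 ha.1,
    trace_tR ha.1 hc.1 hb.1] at this
  simp only [xx, yy] at this ⊢
  linear_combination this

namespace B3

variable (h : B3 X (sB F) (sB F) μ)
include h

theorem mT (i : Fin 3) : ∃ g ∈ X, (g : Matrix (Fin 3) (Fin 3) F) =
    diagonal fun j => if j = i then 1 else -1 :=
  (h.r1 i).mat (by ext r c; fin_cases i <;> fin_cases r <;> fin_cases c <;> simp [vecMulVec] <;> norm_num)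

theorem mS01 : ∃ g ∈ X, (g : Matrix (Fin 3) (Fin 3) F) = !![0, -1, 0; -1, 0, 0; 0, 0, -1] :=
  (h.r2 0 1 (by decide)).mat (by ext r c; fin_cases r <;> fin_cases c <;> simp [vecMulVec])

theorem mS12 : ∃ g ∈ X, (g : Matrix (Fin 3) (Fin 3) F) = !![-1, 0, 0; 0, 0, -1; 0, -1, 0] :=
  (h.r2 1 2 (by decide)).mat (by ext r c; fin_cases r <;> fin_cases c <;> simp [vecMulVec])

theorem mD (h2 : (2 : F) ≠ 0) : ∃ g ∈ X, (g : Matrix (Fin 3) (Fin 3) F) =
    !![-1 / 2, 1 / 2, μ⁻¹; 1 / 2, -1 / 2, μ⁻¹; μ / 2, μ / 2, 0] :=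
  h.r3.mat (by
    have := h.ne
    rw [cb_sB, cb_sB]
    ext r c; fin_cases r <;> fin_cases c <;> simp [vecMulVec] <;> field_simp <;> norm_num)

theorem mJ : ∃ g ∈ X, (g : Matrix (Fin 3) (Fin 3) F) = !![0, -1, 0; 1, 0, 0; 0, 0, 1] := by
  obtain ⟨a, ha, e1⟩ := h.mT 0
  obtain ⟨b, hb, e2⟩ := h.mS01
  refine ⟨a * b, mul_mem ha hb, ?_⟩
  rw [Units.val_mul, e1, e2]
  ext r c; fin_cases r <;> fin_cases c <;> simp [diagonal_mul]

theorem irr (h2 : (2 : F) ≠ 0) : Irr X := fun W hW => by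
  refine or_iff_not_imp_left.2 fun h0 => ?_
  obtain ⟨v, hv, h1⟩ := (Submodule.ne_bot_iff W).1 h0
  obtain ⟨i, hi⟩ := Function.ne_iff.1 h1
  have k1 : sB F i ∈ W := by
    have := W.add_mem (hW _ (h.r1 i).2 v hv) hv
    rw [tR_mulVec (h.r1 i).1, sub_add_cancel] at this
    exact (W.smul_mem_iff (by simpa [h2] using hi)).1 this
  have k2 : ∀ j, sB F j ∈ W := fun j => by
    by_cases e : i = j
    · exact e ▸ k1
    have := W.neg_mem (hW _ (h.r2 i j e).2 _ k1)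
    rw [tR_mulVec (h.r2 i j e).1] at this
    simpa [Ne.symm e] using this
  refine eq_top_iff.2 fun u _ => cb_sB u ▸ W.sum_mem fun j _ => W.smul_mem _ (k2 j)

theorem not_mon (h2 : (2 : F) ≠ 0) : ¬ Mon3 X := by
  rintro ⟨e, ε, hF, hM⟩
  have h0 : ∀ i, e i ≠ 0 := fun i h0 => by simpa [h0] using hF i i
  have k1 : ∀ g ∈ X, g ^ 4 = 1 → ∀ i, ∃ k : F,
      ((g * g : GL (Fin 3) F) : Matrix (Fin 3) (Fin 3) F) *ᵥ e i = k • e i := fun g hg h4 => by
    choose σ k hk using hM g hg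
    have k2 : ∀ i, ((g * g : GL (Fin 3) F) : Matrix (Fin 3) (Fin 3) F) *ᵥ e i =
        (k i * k (σ i)) • e (σ (σ i)) := fun i => by
      rw [GL_mul_mulVec, hk, mulVec_smul, hk, smul_smul]
    have k3 : ∀ i, σ (σ (σ (σ i))) = i := fun i => by
      have := congrArg (fun g : GL (Fin 3) F => ε i ⬝ᵥ (g : Matrix (Fin 3) (Fin 3) F) *ᵥ e i)
        (show g * g * (g * g) = 1 by rw [← h4]; simp only [pow_succ, pow_zero, one_mul, mul_assoc])
      simp only [GL_mul_mulVec (g * g), k2, mulVec_smul, dotProduct_smul, hF i, Units.val_one,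
        one_mulVec] at this
      by_contra hn
      simp [Ne.symm hn] at this
    have k4 : ∀ σ : Fin 3 → Fin 3, (∀ i, σ (σ (σ (σ i))) = i) → ∀ i, σ (σ i) = i := by decide
    exact fun i => ⟨_, (k2 i).trans (by rw [k4 σ k3])⟩
  obtain ⟨j, hj, e1⟩ := h.mJ
  obtain ⟨s, hs, e2⟩ := h.mS12
  have j4 : j ^ 4 = 1 := Units.ext (by
    rw [Units.val_pow_eq_pow_val, e1]
    ext r c; fin_cases r <;> fin_cases c <;> simp [pow_succ, Matrix.mul_apply, Fin.sum_univ_three])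
  have s2 : s * s = 1 := Units.ext (by
    rw [Units.val_mul, e2]
    ext r c; fin_cases r <;> fin_cases c <;> simp [Matrix.mul_apply, Fin.sum_univ_three])
  have k5 : ∀ i, (e i 0 = 0 ∨ e i 2 = 0) ∧ (e i 1 = 0 ∨ e i 2 = 0) ∧ (e i 0 = 0 ∨ e i 1 = 0) := by
    intro i
    obtain ⟨k, hk⟩ := k1 j hj j4 i
    obtain ⟨l, hl⟩ := k1 (s * j * s⁻¹) (mul_mem (mul_mem hs hj) (inv_mem hs))
      (by rw [conj_pow, j4, mul_one, mul_inv_cancel]) i
    rw [inv_eq_of_mul_eq_one_right s2] at hl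
    simp only [Units.val_mul, e1, e2] at hk hl
    have a0 := congrFun hk 0
    have a1 := congrFun hk 1
    have a2 := congrFun hk 2
    have b0 := congrFun hl 0
    have b1 := congrFun hl 1
    simp [mulVec, dotProduct, Fin.sum_univ_three, Matrix.mul_apply] at a0 a1 a2 b0 b1
    refine ⟨?_, ?_, ?_⟩ <;> refine mul_eq_zero.1 (mul_left_cancel₀ h2 ?_)
    · linear_combination e i 0 * a2 - e i 2 * a0
    · linear_combination e i 1 * a2 - e i 2 * a1
    · linear_combination e i 0 * b1 - e i 1 * b0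
  obtain ⟨d, hd, e3⟩ := h.mD h2
  obtain ⟨i, k, hk⟩ := hM d hd 0
  rw [e3] at hk
  have a0 := congrFun hk 0
  have a1 := congrFun hk 1
  simp [mulVec, dotProduct, Fin.sum_univ_three] at a0 a1
  have h1 := mul_eq_zero.2 (k5 i).2.2
  have c1 := mul_eq_zero.2 (k5 0).1
  have c2 := mul_eq_zero.2 (k5 0).2.1
  have c3 := mul_eq_zero.2 (k5 0).2.2
  have hu : (2 * μ⁻¹ * e 0 2) ^ 2 - e 0 0 ^ 2 - e 0 1 ^ 2 = 0 := by
    have H := mul_inv_cancel₀ h2
    have b0 : -e 0 0 + e 0 1 + 2 * μ⁻¹ * e 0 2 = 2 * k * e i 0 := by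
      linear_combination 2 * a0 + (e 0 0 - e 0 1) * H
    have b1 : e 0 0 - e 0 1 + 2 * μ⁻¹ * e 0 2 = 2 * k * e i 1 := by
      linear_combination 2 * a1 - (e 0 0 - e 0 1) * H
    linear_combination congrArg₂ (· * ·) b0 b1 + 4 * k ^ 2 * h1 - 2 * c3
  have v2 : e 0 2 = 0 := by
    have : (2 * μ⁻¹) ^ 2 * e 0 2 ^ 3 = 0 := by
      linear_combination e 0 2 * hu + e 0 0 * c1 + e 0 1 * c2
    simpa [h2, h.ne] using this
  have v0 : e 0 0 = 0 := pow_eq_zero_iff (n := 3) (by decide) |>.1 (by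
    rw [v2] at hu; linear_combination -e 0 0 * hu - e 0 1 * c3)
  have v1 : e 0 1 = 0 := pow_eq_zero_iff (n := 3) (by decide) |>.1 (by
    rw [v2] at hu; linear_combination -e 0 1 * hu - e 0 0 * c3)
  exact h0 0 (funext fun r => by fin_cases r <;> assumption)

theorem real_of_sym (h2 : (2 : F) ≠ 0) (hs : Sym3 X) {d f : Fin 3 → F} (hd : Rt X d f)
    (i j : Fin 3) : d i * f j = d j * f i := by
  by_cases e : i = j
  · rw [e]
  have := hs _ _ _ _ _ _ (h.r1 i) (h.r2 i j e) hd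
  simp [yy, e, Ne.symm e] at this
  exact mul_left_cancel₀ h2 (by linear_combination this)

theorem out_of_sym (h2 : (2 : F) ≠ 0) (hs : Sym3 X) : B3Out X (sB F) (sB F) μ := by
  refine ⟨fun l hl hr => .inl ?_, fun _ d f hr => ?_, fun e _ => ?_⟩
  · have := h.real_of_sym h2 hs hr 0 1
    simp at this
    rw [sq]; nth_rw 1 [← this]; exact inv_mul_cancel₀ hl
  · rw [cb_sB, cb_sB] at hr
    exact h.real_of_sym h2 hs hr
  · have := h.real_of_sym h2 hs h.r3 0 2
    have h3 := h.ne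
    simp [cb_sB] at this
    field_simp at this
    exact mul_ne_zero h2 h2 (by linear_combination this + e)

variable {G : Type*} [Group G] {π : X →* G} (hP : Proj X π)
include hP

omit h in
theorem pw_mat {s : List ℕ} (hG : ∀ b : G, ∃ k ∈ s, b ^ k = 1) {g : GL (Fin 3) F} (hg : g ∈ X) :
    ∃ k ∈ s, ∃ c : F, (g : Matrix (Fin 3) (Fin 3) F) ^ k = c • 1 := by
  obtain ⟨k, hk, e⟩ := hG (π ⟨g, hg⟩)
  rw [← map_pow, hP.ker, mem_scalars_iff'] at e
  exact ⟨k, hk, e⟩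

theorem quat (h2 : (2 : F) ≠ 0) (hq : NoQu G) {b : GL (Fin 3) F} (hb : b ∈ X) {x y : F}
    (e : (b : Matrix (Fin 3) (Fin 3) F) = !![x, y, 0; y, -x, 0; 0, 0, 1]) : x ^ 2 + y ^ 2 ≠ -1 := by
  intro hd
  obtain ⟨a, ha, e1⟩ := h.mJ
  have k := hq (π ⟨a, ha⟩) (π ⟨b, hb⟩) (by
      rw [← map_mul, ← map_mul]
      refine congrArg π (Subtype.ext (Units.ext ?_))
      simp only [Subgroup.coe_mul, Units.val_mul, e, e1]
      ext r c; fin_cases r <;> fin_cases c <;> simp [Matrix.mul_apply, Fin.sum_univ_three] <;>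
        first | ring1 | linear_combination -hd) (by
      rw [← map_mul, ← map_mul, ← map_mul]
      refine congrArg π (Subtype.ext (Units.ext ?_))
      simp only [Subgroup.coe_mul, Units.val_mul, e, e1]
      ext r c; fin_cases r <;> fin_cases c <;> simp [Matrix.mul_apply, Fin.sum_univ_three] <;>
        first | ring1 | linear_combination hd)
  rw [← map_mul, hP.ker, mem_scalars_iff'] at k
  obtain ⟨c, k⟩ := k
  simp only [Subgroup.coe_mul, Units.val_mul, e1] at k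
  have k0 := congrFun (congrFun k 0) 0
  have k2 := congrFun (congrFun k 2) 2
  simp [Matrix.mul_apply, Fin.sum_univ_three] at k0 k2
  exact h2 (by linear_combination k2 - k0)

theorem noq_of (h2 : (2 : F) ≠ 0) (hq : NoQu G) (e : μ ^ 2 = -2) :
    ¬ Rt X (cb ![1 + μ, 1, 0] (sB F)) (cb ![(1 - μ) / 2, 1 / 2, 0] (sB F)) := fun hr => by
  have H := mul_inv_cancel₀ h2
  obtain ⟨c, hc, e1⟩ := hr.mat (M := !![1 / 2, (1 + μ) / 2, 0; (1 - μ) / 2, -1 / 2, 0; 0, 0, -1]) (by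
    rw [cb_sB, cb_sB]
    ext r c; fin_cases r <;> fin_cases c <;> simp [vecMulVec] <;> field_simp <;>
      first | ring1 | linear_combination -e)
  obtain ⟨a, ha, e2⟩ := h.mJ
  refine h.quat hP h2 hq (mul_mem (mul_mem hc ha) hc) (x := μ / 2) (y := μ / 2) ?_ ?_
  · simp only [Units.val_mul, e1, e2]
    ext r c; fin_cases r <;> fin_cases c <;> simp [Matrix.mul_apply, Fin.sum_univ_three] <;>
      field_simp <;> first | ring1 | linear_combination e | linear_combination -e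
  · field_simp
    linear_combination 2 * e

theorem lam_of (h2 : (2 : F) ≠ 0) (hq : NoQu G) {s : List ℕ} (hG : ∀ b : G, ∃ k ∈ s, b ^ k = 1)
    {l : F} (hl : l ≠ 0) (hr : Rt X (sB F 0 - l • sB F 1) (sB F 0 - l⁻¹ • sB F 1)) :
    l ^ 2 ≠ -1 ∧ ∃ k ∈ s, Even k ∧ l ^ k = 1 := by
  obtain ⟨c, hc, e1⟩ := hr.mat (M := !![0, -l⁻¹, 0; -l, 0, 0; 0, 0, -1]) (by
    ext r c; fin_cases r <;> fin_cases c <;> simp [vecMulVec, hl])
  obtain ⟨a, ha, e2⟩ := h.mS01
  obtain ⟨t, ht, e3⟩ := h.mT 2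
  have e4 : ((a * c : GL (Fin 3) F) : Matrix (Fin 3) (Fin 3) F) = diagonal ![l, l⁻¹, 1] := by
    rw [Units.val_mul, e1, e2]
    ext r c; fin_cases r <;> fin_cases c <;> simp [Matrix.mul_apply, Fin.sum_univ_three]
  have e5 : ((t * (a * c) : GL (Fin 3) F) : Matrix (Fin 3) (Fin 3) F) = diagonal ![-l, -l⁻¹, 1] := by
    rw [Units.val_mul, e3, e4, diagonal_mul_diagonal]
    congr 1; ext r; fin_cases r <;> simp
  have k : ∀ g ∈ X, ∀ x y : F, (g : Matrix (Fin 3) (Fin 3) F) = diagonal ![x, y, 1] →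
      ∃ k ∈ s, x ^ k = 1 := fun g hg x y e => by
    obtain ⟨k, hk, c, e1⟩ := pw_mat hP hG hg
    rw [e, diagonal_pow] at e1
    have k0 := congrFun (congrFun e1 0) 0
    have k2 := congrFun (congrFun e1 2) 2
    simp at k0 k2
    exact ⟨k, hk, k0.trans k2.symm⟩
  refine ⟨fun e => h.quat hP h2 hq (mul_mem ha hc) (x := l) (y := 0) ?_ (by simpa using e), ?_⟩
  · rw [e4, show l⁻¹ = -l from inv_eq_of_mul_eq_one_right (by linear_combination -e)]
    ext r c; fin_cases r <;> fin_cases c <;> simp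
  obtain ⟨m, hm, k1⟩ := k _ (mul_mem ha hc) _ _ e4
  obtain ⟨n, hn, k2⟩ := k _ (mul_mem ht (mul_mem ha hc)) _ _ e5
  rcases Nat.even_or_odd m with h3 | h3
  · exact ⟨m, hm, h3, k1⟩
  rcases Nat.even_or_odd n with h4 | h4
  · exact ⟨n, hn, h4, h4.neg_pow l ▸ k2⟩
  have k3 : (-l) ^ (n * m) = 1 := by rw [pow_mul, k2, one_pow]
  rw [(h4.mul h3).neg_pow, mul_comm, pow_mul, k1, one_pow] at k3
  exact absurd (by linear_combination -k3) h2

theorem not_big (h5 : (5 : F) = 0) (hG : ∀ b : G, ∃ k ∈ [4, 5, 6, 7], b ^ k = 1) : μ ^ 2 ≠ 2 := by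
  intro e
  have := Fact.mk Nat.prime_five
  have : CharP F 5 := (CharP.charP_iff_prime_eq_zero Nat.prime_five).2 (by exact_mod_cast h5)
  have h2 : (2 : F) ≠ 0 := fun h2 => one_ne_zero (by linear_combination h5 - 2 * h2 : (1 : F) = 0)
  obtain ⟨d, hd, e1⟩ := h.mD h2
  obtain ⟨s, hs, e2⟩ := h.mS12
  obtain ⟨k, hk, c, e3⟩ := pw_mat hP hG (mul_mem hs hd)
  let φ : ℤ√2 →+* F := Zsqrtd.lift ⟨μ, by rw [← sq, e]; norm_num⟩
  let M : Matrix (Fin 3) (Fin 3) (ℤ√2) :=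
    !![⟨3, 0⟩, ⟨2, 0⟩, ⟨0, 2⟩; ⟨0, 2⟩, ⟨0, 2⟩, 0; ⟨2, 0⟩, ⟨3, 0⟩, ⟨0, 2⟩]
  have i2 : (2 : F)⁻¹ = 3 := inv_eq_of_mul_eq_one_right (by linear_combination h5)
  have iμ : μ⁻¹ = 3 * μ := inv_eq_of_mul_eq_one_right (by linear_combination 3 * e + h5)
  have e4 : ((s * d : GL (Fin 3) F) : Matrix (Fin 3) (Fin 3) F) = φ.mapMatrix M := by
    rw [Units.val_mul, e1, e2]
    ext r c; fin_cases r <;> fin_cases c <;>
      simp [Matrix.mul_apply, Fin.sum_univ_three, M, φ, div_eq_mul_inv, i2, iμ] <;>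
      first | linear_combination -h5 | linear_combination -μ * h5
  rw [e4, ← map_pow] at e3
  have k1 : φ ((M ^ k) 1 0) = 0 := by simpa using congrFun (congrFun e3 1) 0
  have k2 : ∀ k ∈ [4, 5, 6, 7], ¬ (5 : ℤ) ∣ ((M ^ k) 1 0).norm := by decide +kernel
  refine k2 k hk ((CharP.intCast_eq_zero_iff F 5 _).1 ?_)
  rw [← map_intCast φ, Zsqrtd.norm_eq_mul_conj, map_mul, k1, zero_mul]

end B3

/-- The orthogonal group of the standard form. -/
def orth3 (F : Type*) [Field F] : Subgroup (GL (Fin 3) F) where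
  carrier := {g | (g : Matrix (Fin 3) (Fin 3) F)ᵀ * g = 1}
  one_mem' := by simp
  mul_mem' := fun {a b} ha hb => by
    simp only [Set.mem_ofPred_eq, Units.val_mul, transpose_mul] at *
    rw [Matrix.mul_assoc, ← Matrix.mul_assoc _ a.1, ha, Matrix.one_mul, hb]
  inv_mem' := fun {a} ha => by
    simp only [Set.mem_ofPred_eq] at *
    rw [← Units.eq_inv_of_mul_eq_one_right ha, transpose_transpose, mul_eq_one_comm.1 ha]

theorem B3.real_of [Finite F] (h : B3 X (sB F) (sB F) μ) (h2 : (2 : F) ≠ 0) {G : Type*} [Group G]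
    {π : X →* G} (hP : Proj X π) (hG : ∀ H K : Subgroup G, H < K → 24 ∣ Nat.card H → K = ⊤)
    (e : μ ^ 2 = 2) {d f : Fin 3 → F} (hr : Rt X d f) (i j : Fin 3) : d i * f j = d j * f i := by
  have := Finite.of_surjective π hP.surj
  choose t ht et using h.mT
  obtain ⟨a, ha, ea⟩ := h.mJ
  obtain ⟨s, hs, es⟩ := h.mS12
  obtain ⟨u, hu, eu⟩ := h.mD h2
  have iμ : μ⁻¹ = μ / 2 := inv_eq_of_mul_eq_one_right (by field_simp; exact e)
  rw [iμ] at eu
  let N := Subgroup.normalizer (Set.range t)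
  have mN : ∀ g : GL (Fin 3) F, (∀ i, ∃ j, g * t i = t j * g) → g ∈ N := fun g hg =>
    Subgroup.mem_normalizer_fintype (by
      rintro _ ⟨i, rfl⟩
      obtain ⟨j, e⟩ := hg i
      exact ⟨j, by rw [e, mul_inv_cancel_right]⟩)
  have ns : ∀ g : X, (g.1 : Matrix (Fin 3) (Fin 3) F) 0 0 ≠ (g.1 : Matrix (Fin 3) (Fin 3) F) 2 2 ∨
      (g.1 : Matrix (Fin 3) (Fin 3) F) 0 2 ≠ 0 → π g ≠ 1 := fun g hg e => by
    obtain ⟨c, e⟩ := (mem_scalars_iff' _).1 ((hP.ker g).1 e)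
    simp [e] at hg
  have mO : ∀ g : GL (Fin 3) F, (g : Matrix (Fin 3) (Fin 3) F)ᵀ * g = 1 → g ∈ orth3 F := fun g e => e
  have h11 : (-1 : F) ≠ 1 := fun e => h2 (by linear_combination -e)
  have aH : π ⟨a, ha⟩ ∈ ((orth3 F ⊓ N).subgroupOf X).map π := ⟨⟨a, ha⟩, ⟨mO a (by
      rw [ea]; ext r c; fin_cases r <;> fin_cases c <;> simp [Matrix.mul_apply, Fin.sum_univ_three]),
    mN a fun i => ⟨![1, 0, 2] i, Units.ext (by
      rw [Units.val_mul, Units.val_mul, ea, et, et]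
      ext r c; fin_cases i <;> fin_cases r <;> fin_cases c <;> simp)⟩⟩, rfl⟩
  have sH : π ⟨s, hs⟩ ∈ ((orth3 F ⊓ N).subgroupOf X).map π := ⟨⟨s, hs⟩, ⟨mO s (by
      rw [es]; ext r c; fin_cases r <;> fin_cases c <;> simp [Matrix.mul_apply, Fin.sum_univ_three]),
    mN s fun i => ⟨![0, 2, 1] i, Units.ext (by
      rw [Units.val_mul, Units.val_mul, es, et, et]
      ext r c; fin_cases i <;> fin_cases r <;> fin_cases c <;> simp)⟩⟩, rfl⟩
  have tH : π ⟨t 0, ht 0⟩ ∈ ((orth3 F ⊓ N).subgroupOf X).map π := ⟨⟨t 0, ht 0⟩, ⟨mO (t 0) (by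
      rw [et]; ext r c; fin_cases r <;> fin_cases c <;> simp),
    mN (t 0) fun i => ⟨i, Units.ext (by
      rw [Units.val_mul, Units.val_mul, et, et, diagonal_mul_diagonal, diagonal_mul_diagonal]
      simp only [mul_comm])⟩⟩, rfl⟩
  have one : ∀ g : X, (g.1 : Matrix (Fin 3) (Fin 3) F) = 1 → π g = 1 := fun g e =>
    (Subtype.ext (Units.ext e) : g = 1) ▸ map_one π
  have h8 := eight_dvd aH tH (by
      rw [← map_pow]; refine one _ ?_
      simp only [SubmonoidClass.coe_pow, Units.val_pow_eq_pow_val, ea]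
      ext r c; fin_cases r <;> fin_cases c <;> simp [pow_succ, Matrix.mul_apply, Fin.sum_univ_three])
    (by rw [← map_pow]; exact ns _ (.inl (by simpa [pow_succ, ea, Matrix.mul_apply, Fin.sum_univ_three])))
    (by
      rw [← map_pow]; refine one _ ?_
      simp only [SubmonoidClass.coe_pow, Units.val_pow_eq_pow_val, et]
      ext r c; fin_cases r <;> fin_cases c <;> simp [pow_succ])
    (ns _ (.inl (by simpa [et] using h11.symm))) (by
      rw [mul_inv_eq_iff_eq_mul, eq_inv_mul_iff_mul_eq, ← map_mul, ← map_mul]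
      refine congrArg π (Subtype.ext (Units.ext ?_))
      simp only [Subgroup.coe_mul, Units.val_mul, ea, et]
      ext r c; fin_cases r <;> fin_cases c <;> simp [Matrix.mul_apply, Fin.sum_univ_three])
  have h3 : orderOf (π ⟨a, ha⟩ * π ⟨s, hs⟩) = 3 := by
    have := Fact.mk Nat.prime_three
    rw [← map_mul]
    refine orderOf_eq_prime ?_ (ns _ (.inr (by simp [ea, es, Matrix.mul_apply, Fin.sum_univ_three])))
    rw [← map_pow]; refine one _ ?_
    simp only [SubmonoidClass.coe_pow, Units.val_pow_eq_pow_val, Subgroup.coe_mul, Units.val_mul, ea, es]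
    ext r c; fin_cases r <;> fin_cases c <;> simp [pow_succ, Matrix.mul_apply, Fin.sum_univ_three]
  have hK := hG _ (((orth3 F).subgroupOf X).map π) (lt_of_le_not_ge
    (Subgroup.map_mono (Subgroup.comap_mono inf_le_left)) fun hle => by
      obtain ⟨y, hy, e1⟩ := hle (Subgroup.mem_map_of_mem π (x := ⟨u, hu⟩) (mO u (by
        rw [eu]; ext r c; fin_cases r <;> fin_cases c <;>
          simp [Matrix.mul_apply, Fin.sum_univ_three] <;> field_simp <;>
          first | ring1 | linear_combination e | linear_combination 2 * e)))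
      have k1 : u ∈ N := (mul_mem_cancel_left (inv_mem (show y.1 ∈ N from hy.2))).1
        (mN _ fun i => ⟨i, comm_of_mem_scalars (hP.eq_iff.1 e1) _⟩)
      obtain ⟨j, k2⟩ := (Subgroup.mem_set_normalizer_iff.1 k1 _).1 ⟨0, rfl⟩
      have k3 := congrArg Units.val (eq_mul_inv_iff_mul_eq.1 k2)
      rw [Units.val_mul, Units.val_mul, eu, et, et] at k3
      have k4 := congrFun (congrFun k3 0) 0
      have k5 := congrFun (congrFun k3 0) 1
      simp at k4 k5
      have H := mul_inv_cancel₀ h2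
      by_cases k6 : 0 = j
      · exact one_ne_zero (by linear_combination k5 k6 - H : (1 : F) = 0)
      · exact one_ne_zero (by linear_combination k4 k6 - H : (1 : F) = 0))
    ((Nat.Coprime.mul_dvd_of_dvd_of_dvd (by norm_num) h8
      ((dvd_of_eq h3.symm).trans (Subgroup.orderOf_dvd_natCard _ (mul_mem aH sH))) : 8 * 3 ∣ _))
  obtain ⟨y, hy, e1⟩ := hK.ge (Subgroup.mem_top (π ⟨_, hr.2⟩))
  obtain ⟨c, e2⟩ := (mem_scalars_iff' _).1 (hP.eq_iff.1 e1)
  rw [Units.val_mul, Units.inv_mul_eq_iff_eq_mul, Matrix.mul_smul, Matrix.mul_one] at e2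
  have e3 : (tR d f : Matrix (Fin 3) (Fin 3) F)ᵀ = c ^ 2 • (tR d f : Matrix (Fin 3) (Fin 3) F) := by
    have k1 : (tR d f : Matrix (Fin 3) (Fin 3) F)ᵀ * tR d f = c ^ 2 • 1 := by
      rw [e2, transpose_smul, Matrix.smul_mul, Matrix.mul_smul, smul_smul, ← sq]
      exact congrArg _ hy
    rw [← Matrix.one_mul (tR d f).1, ← Matrix.smul_mul, ← k1, Matrix.mul_assoc, ← Units.val_mul,
      tR_mul_self, Units.val_one, Matrix.mul_one, Matrix.one_mul]
  have e4 := congrArg trace e3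
  rw [trace_transpose, trace_smul, tR_coe hr.1, trace_sub, trace_vecMulVec, dotProduct_comm, hr.1,
    trace_one] at e4
  rw [show c ^ 2 = 1 by simp at e4; linear_combination e4, one_smul, tR_coe hr.1, transpose_sub,
    transpose_one, sub_left_inj] at e3
  exact (congrFun (congrFun e3 i) j).symm

theorem wB3_of (hT : WT.{u}) : WB3.{u} := by
  intro F _ _ X hX μ h
  rcases hT F X hX (h.irr hX.two) with k | k | k
  · exact absurd k (h.not_mon hX.two)
  · exact h.out_of_sym hX.two k.sym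
  obtain ⟨π, hP⟩ := exists_proj (MulEquiv.refl (Bar X))
  have h4 : ∀ l : F, l ^ 2 ≠ -1 → l ^ 4 = 1 → l ^ 2 = 1 := fun l h1 h2 =>
    mul_left_cancel₀ (fun e => h1 (eq_neg_of_add_eq_zero_left e) : l ^ 2 + 1 ≠ 0)
      (by linear_combination h2)
  rcases exc_cases k with k | ⟨h5, k⟩
  · refine ⟨fun l hl hr => .inl ?_, fun e d f hr => ?_, h.noq_of hP hX.two k.nq⟩
    · obtain ⟨h1, m, hm, h2, h3⟩ := h.lam_of hP hX.two k.nq k.pw hl hr
      obtain rfl : m = 4 := by clear h3; revert m; decide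
      exact h4 l h1 h3
    · rw [cb_sB, cb_sB] at hr
      exact h.real_of hX.two hP k.mx e hr
  · refine ⟨fun l hl hr => ?_, fun e => absurd e (h.not_big hP h5 k.pw), h.noq_of hP hX.two k.nq⟩
    obtain ⟨h1, m, hm, h2, h3⟩ := h.lam_of hP hX.two k.nq k.pw hl hr
    obtain rfl | rfl : m = 4 ∨ m = 6 := by clear h3; revert m; decide
    · exact .inl (h4 l h1 h3)
    · exact or_iff_not_imp_left.2 fun e => ⟨h5, mul_left_cancel₀ (sub_ne_zero.2 e)
        (by linear_combination h3)⟩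

end Cfsg.Lib.Five
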