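import Cfsg.Agent.Class.Five.RDefs
import Cfsg.Agent.Mit.A67
import Cfsg.Agent.S0249

/-!
# The exceptional groups of dimension three: element orders, quaternion groups, overgroups of `S₄`
-/

set_option autoImplicit false

namespace Cfsg.Lib.Five

open Matrix Cfsg.Geo Cfsg.Lib.Class Cfsg.Lib.Class.Asch Cfsg.Lib.Mit Subgroup
open scoped MatrixGroups

variable {G : Type*} [Group G]

/-- There is no quaternion subgroup. -/
def NoQu (G : Type*) [Group G] : Prop :=
  ∀ a b : G, a * a = b * b → a * b * (a * b) = a * a → a * a = 1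

theorem qu_rel {a b : G} (h1 : a * a = b * b) (h2 : a * b * (a * b) = a * a) :
    b * a * b⁻¹ = a⁻¹ ∧ a * a * (a * a) = 1 := by
  have h3 : b * a * b⁻¹ = a⁻¹ := by
    calc _ = a⁻¹ * (a * b * (a * b)) * (b * b)⁻¹ := by group
      _ = _ := by rw [h2, ← h1]; group
  refine ⟨h3, ?_⟩
  have h4 : b * (a * a) * b⁻¹ = a * a := by rw [h1]; group
  rw [← conj_mul, h3] at h4
  nth_rw 1 [← h4]
  group

theorem NoQ8.noQu (h : NoQ8 G) : NoQu G := fun a b h1 h2 => by
  rcases h a b h1 (qu_rel h1 h2).2 with e | rfl | rfl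
  · exact e
  · exact mul_left_cancel (h2.trans (mul_one _).symm)
  · simpa using h2.symm

theorem noQu_perm {α : Type*} [Fintype α] (h : Fintype.card α < 8) : NoQu (Equiv.Perm α) := by
  intro a b h1 h2
  obtain ⟨h3, h4⟩ := qu_rel h1 h2
  by_contra hz
  obtain ⟨p, hp⟩ : ∃ p, (a * a) p ≠ p := by
    by_contra hn
    push Not at hn
    exact hz (Equiv.ext hn)
  have k0 : ∀ g : Equiv.Perm α, g * g = a * a → ∀ q, (a * a) q ≠ q → g q ≠ q :=
    fun g e q hq hg => hq (by rw [← e, Equiv.Perm.mul_apply, hg, hg])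
  have k1 : ∀ q, (a * a) q ≠ q → ∀ i j : Fin 4, (a ^ i.1) q = (a ^ j.1) q → i = j := by
    intro q hq
    have k : ∀ i j : Fin 4, i < j → (a ^ i.1) q ≠ (a ^ j.1) q := fun i j hij e => by
      obtain ⟨d, hd⟩ := Nat.exists_eq_add_of_lt hij
      rw [Fin.lt_def] at hij
      rw [hd, add_assoc, pow_add, Equiv.Perm.mul_apply, Equiv.apply_eq_iff_eq] at e
      have : d < 3 := by omega
      interval_cases d
      · exact k0 a rfl q hq (by simpa using e.symm)
      · exact hq (by simpa [pow_two] using e.symm)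
      · exact k0 (a ^ 3) (by
          calc _ = a * a * (a * a) * (a * a) := by simp only [pow_succ, pow_zero, one_mul, mul_assoc]
            _ = _ := by rw [h4, one_mul]) q hq e.symm
    intro i j e
    rcases lt_trichotomy i j with h | h | h
    exacts [absurd e (k i j h), h, absurd e.symm (k j i h)]
  have k2 : ∀ i j : ℕ, (a ^ i) (b p) ≠ (a ^ j) p := fun i j e => by
    refine k0 (a ^ ((i : ℤ) - j) * b) ?_ p hp ?_
    · calc _ = a ^ ((i : ℤ) - j) * (b * a * b⁻¹) ^ ((i : ℤ) - j) * (b * b) := by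
            rw [conj_zpow]; group
        _ = _ := by rw [h3, ← h1]; group
    · rw [sub_eq_neg_add, _root_.zpow_add, _root_.zpow_neg, zpow_natCast, zpow_natCast, Equiv.Perm.mul_apply,
        Equiv.Perm.mul_apply, e]
      simp
  have hq : (a * a) (b p) ≠ b p := fun e => hp (b.injective (by
    rw [h1] at e ⊢; exact e))
  have := Fintype.card_le_of_injective (fun x : Fin 4 × Bool => (a ^ x.1.1) (cond x.2 (b p) p)) (by
    rintro ⟨i, _ | _⟩ ⟨j, _ | _⟩ e
    · exact Prod.ext (k1 p hp i j e) rfl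
    · exact absurd e.symm (k2 _ _)
    · exact absurd e (k2 _ _)
    · exact Prod.ext (k1 _ hq i j e) rfl)
  simp at this
  omega

theorem NoQu.of_injective {H : Type*} [Group H] (h : NoQu H) (f : G →* H)
    (hf : Function.Injective f) : NoQu G := fun a b h1 h2 =>
  hf (by simpa using h (f a) (f b) (by simpa using congrArg f h1) (by simpa using congrArg f h2))

theorem eight_dvd [Finite G] {H : Subgroup G} {a s : G} (ha : a ∈ H) (hs : s ∈ H)
    (h4 : a ^ 4 = 1) (h2 : a ^ 2 ≠ 1) (hs2 : s ^ 2 = 1) (hs1 : s ≠ 1) (e : s * a * s⁻¹ = a⁻¹) :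
    8 ∣ Nat.card H := by
  classical
  have := Fact.mk Nat.prime_two
  have o1 : orderOf a = 4 := orderOf_eq_prime_pow (p := 2) (n := 1) (by simpa using h2) h4
  have o2 : orderOf s = 2 := orderOf_eq_prime hs2 hs1
  have h1 := Solv.card_sup_of_disjoint_of_le_normalizer (N := zpowers a) (H := zpowers s)
    (zpowers_le.2 (mem_normalizer_fintype fun y ⟨n, hn⟩ => by
      rw [← hn]
      change s * a ^ n * s⁻¹ ∈ zpowers a
      rw [← conj_zpow, e]
      exact zpow_mem (inv_mem (mem_zpowers a)) n)) (eq_bot_iff.2 fun y ⟨⟨n, h1⟩, h3⟩ => by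
      rcases (mem_zpowers_iff_mem_range_orderOf.1 h3 : _) |> Finset.mem_image.1 with ⟨k, hk, rfl⟩
      rw [o2, Finset.mem_range] at hk
      interval_cases k
      · simp
      · refine absurd ?_ h2
        rw [pow_one] at h1
        rw [← h1, ((Commute.refl a).zpow_left n).eq, mul_inv_cancel_right] at e
        rw [pow_two]; nth_rw 1 [e]; exact inv_mul_cancel a)
  rw [Nat.card_zpowers, Nat.card_zpowers, o1, o2] at h1
  exact (dvd_of_eq h1.symm).trans (card_dvd_of_le (sup_le (zpowers_le.2 ha) (zpowers_le.2 hs)))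

theorem eq_top_of_lt [Finite G] [IsSimpleGroup G] (h : Nat.card G = 168 ∨ Nat.card G = 360)
    {H K : Subgroup G} (h1 : H < K) (h2 : 24 ∣ Nat.card H) : K = ⊤ := by
  by_contra hK
  have h3 := Local.card_dvd_factorial_index hK
  have h4 := K.card_mul_index
  obtain ⟨m, hm⟩ := h2
  obtain ⟨n, hn⟩ := card_dvd_of_le h1.le
  have h5 : n ≠ 1 := fun e => h1.ne (eq_of_le_of_card_ge h1.le (by rw [hn, e, mul_one]))
  have h6 : K.index ≠ 1 := fun e => hK (index_eq_one.1 e)
  rw [hn, hm] at h4
  generalize K.index = i at *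
  rcases h with h | h <;> rw [h] at h3 h4
  · have h7 : m * n * i = 7 := by nlinarith
    rcases (Nat.dvd_prime (by norm_num)).1 ⟨_, h7.symm.trans (mul_comm _ _)⟩ with e | rfl
    · exact h6 e
    · exact h5 (Nat.eq_one_of_mul_eq_one_left (by omega : m * n = 1))
  · have h7 : m * n * i = 15 := by nlinarith
    have h8 : i ≤ 15 := Nat.le_of_dvd (by norm_num) ⟨_, h7.symm.trans (mul_comm _ _)⟩
    interval_cases i <;> first | omega | exact absurd h3 (by decide) |
      exact h5 (Nat.eq_one_of_mul_eq_one_left (by omega : m * n = 1))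

/-- What is used about `L₃(2)` and `A₆`. -/
structure Sm (G : Type*) [Group G] : Prop where
  pw : ∀ b : G, ∃ k ∈ [3, 4, 5, 7], b ^ k = 1
  nq : NoQu G
  mx : ∀ H K : Subgroup G, H < K → 24 ∣ Nat.card H → K = ⊤

/-- What is used about `A₇`. -/
structure Bg (G : Type*) [Group G] : Prop where
  pw : ∀ b : G, ∃ k ∈ [4, 5, 6, 7], b ^ k = 1
  nq : NoQu G

theorem exc_cases {F : Type*} [Field F] [Finite F] {X : Subgroup (GL (Fin 3) F)} (h : Exc3 X) :
    Sm (Bar X) ∨ ((5 : F) = 0 ∧ Bg (Bar X)) := by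
  rcases h with ⟨⟨e⟩⟩ | ⟨⟨e⟩⟩ | ⟨h5, ⟨e⟩⟩
  · have := Agent.S0249.result (F := ZMod 2) 3 le_rfl
    have := e.isSimpleGroup
    have hc := (Nat.card_congr e.toEquiv).trans card_PSL_three_two
    obtain ⟨f⟩ := Known.G168.nonempty_equiv (G := Bar X) hc
    refine .inl ⟨fun b => ?_, (NoQ8.noQu noQ8_l27).of_injective f.symm.toMonoidHom f.symm.injective,
      fun _ _ => eq_top_of_lt (.inl hc)⟩
    obtain ⟨b, rfl⟩ := f.surjective b
    rcases l27_pow b with h | h | h <;> exact ⟨_, by simp, (map_pow _ b _).symm.trans ((congrArg _ h).trans (map_one _))⟩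
  · have := alternatingGroup.isSimpleGroup (α := Fin 6) (by simp)
    have := e.isSimpleGroup
    refine .inl ⟨fun b => ?_, (noQu_perm (by simp)).of_injective
      ((alternatingGroup (Fin 6)).subtype.comp e.toMonoidHom) (Subtype.val_injective.comp e.injective),
      fun _ _ => eq_top_of_lt (.inr ((Nat.card_congr e.toEquiv).trans ?_))⟩
    · obtain ⟨b, rfl⟩ := e.symm.surjective b
      rcases (by simpa using a6_pow' b : b ^ 3 = 1 ∨ b ^ 4 = 1 ∨ b ^ 5 = 1) with h | h | h <;>
        exact ⟨_, by simp, (map_pow _ b _).symm.trans ((congrArg _ h).trans (map_one _))⟩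
    · have := two_mul_nat_card_alternatingGroup (α := Fin 6)
      rw [Nat.card_perm, Nat.card_fin, show Nat.factorial 6 = 720 by decide] at this
      omega
  · refine .inr ⟨h5, fun b => ?_, (noQu_perm (by simp)).of_injective
      ((alternatingGroup (Fin 7)).subtype.comp e.toMonoidHom) (Subtype.val_injective.comp e.injective)⟩
    obtain ⟨b, rfl⟩ := e.symm.surjective b
    rcases alt7_cases b with h | ⟨h, -⟩ | h | ⟨h, -⟩ <;>
      exact ⟨_, by simp, (map_pow _ b _).symm.trans ((congrArg _ h).trans (map_one _))⟩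

end Cfsg.Lib.Five
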